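import Cfsg.Agent.H366.OZ.SpFront

/-!
# `Omega_{2n+1}(q)`, `q` odd, `n ≥ 5`: the row from the congruences (S4842, helper477)
-/

set_option autoImplicit false

open Cfsg Cfsg.Agent.H730.OZ

namespace Cfsg.Agent.H477.OZ

universe u

/-- **The row `Omega_{2n+1}(q)`, `n ≥ 5`, from its congruences** for `k = 0, 1, 2`. -/
theorem row_of_cong {S : Type u} [Group S] [Finite S] (hs : IsSimpleGroup S) {F : Type} [Field F] [Fintype F] {n : ℕ}
    (hn : 5 ≤ n) (ho : Odd (Fintype.card F)) (e : S ≃* POmega F (quadFormOdd n F))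
    (hc : ∀ k r p a : ℕ, k ≤ 2 → p.Prime → r.Prime → 0 < a → Fintype.card F = p ^ a →
      orderOf ((p : ℕ) : ZMod r) = a * (2 * (n - k)) → orderOf ((p ^ a : ℕ) : ZMod r) = 2 * (n - k) →
      H730.OZ.Cong p r (2 * a * k ^ 2) S) : H730.OZ.Row S := by
  obtain ⟨p, hch⟩ := CharP.exists F
  obtain ⟨hp, a, ha, hq⟩ := H366.OZ.exists_pow F p
  refine fun χ hχ hz => absurd hz (none_of_cong hs hp (H366.OZ.fact_oodd e ho (by omega) hp ha hq) (by positivity)
    (H366.OZ.kaw_oodd e ho (by omega)) (H366.OZ.not_dvd_oodd e ho (by omega) hp ha hq) ?_ hχ)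
  intro m ε hε hm0 hm hC
  refine Cfsg.Agent.H167.OZ.om_false hp ha hn ?_ hm0 hm hε fun k r hk hr hD hD' =>
    hC r _ (hc k r p a hk hp hr ha hq hD hD')
  rintro ⟨h1, -⟩
  rw [← hq] at h1
  rw [h1] at ho
  exact absurd ho (by decide)

end Cfsg.Agent.H477.OZ
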