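import Cfsg.Agent.H477.OZ.Geo2
import Cfsg.Agent.H477.OZ.Tr
import Cfsg.Agent.H845.OZ.SpY
import Cfsg.Agent.H366.OZ.SpFront
import Cfsg.Agent.H477.HC.Arith

/-!
# `PSp_{2n}(q)`, `n ≥ 5` (S4842, helper477)

* `finite_iso` : finiteness of the isometry group;
* `congS_psp` : one congruence, any `n`; `spCong_psp` : the congruences `SpCong p n q (PSp_{2n}(q))`;
* `congS_psp_two` : `n - k = 2`, `q ≥ 4` (`PSp_4`, `PSp_6`);
* `row_psp_five` : the row.
-/

set_option autoImplicit false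

open Cfsg Cfsg.Agent.H730.OZ

namespace Cfsg.Agent.H477.OZ

open Module Cfsg.Agent.H477.HC

universe u v

theorem finite_iso {K : Type u} [Field K] {V : Type v} [AddCommGroup V] [Module K V] [Finite K] [FiniteDimensional K V]
    (F : CForm K V) : Finite F.iso := by
  have : Finite V := Module.finite_of_finite K
  have : Finite (V ≃ₗ[K] V) :=
    Finite.of_injective (fun e => (e : V → V)) (fun a b hab => LinearEquiv.ext fun v => congrFun hab v)
  exact Subtype.finite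

theorem num_ineq {q j ν : ℕ} (hj : 3 ≤ j) (h : (ν = 1 ∧ 2 ≤ q) ∨ (ν = 2 ∧ 3 ≤ q)) :
    ν * (ν * (2 * j) + 1) < q ^ j + 1 := by
  have h2 : ∀ j : ℕ, 3 ≤ j → 2 * j < 2 ^ j := by
    intro j hj
    induction j, hj using Nat.le_induction with
    | base => norm_num
    | succ j hj ih => rw [pow_succ]; omega
  have h3 : ∀ j : ℕ, 3 ≤ j → 8 * j + 2 < 3 ^ j + 1 := by
    intro j hj
    induction j, hj using Nat.le_induction with
    | base => norm_num
    | succ j hj ih => rw [pow_succ]; omega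
  rcases h with ⟨rfl, hq⟩ | ⟨rfl, hq⟩
  · have := (h2 j hj).trans_le (Nat.pow_le_pow_left hq j)
    omega
  · have := (h3 j hj).trans_le (Nat.succ_le_succ (Nat.pow_le_pow_left hq j))
    omega

/-- **One congruence for `PSp_{2n}(q)`**, any `n`. -/
theorem congS_psp {S : Type u} [Group S] [Finite S] {F : Type} [Field F] [Fintype F] {n : ℕ} (e : S ≃* PSp n F)
    (hn : 1 ≤ n) {p : ℕ} [CharP F p] {k r : ℕ} (hk : 2 * k < n) (hr : r.Prime)
    (hord : orderOf ((Fintype.card F : ℕ) : ZMod r) = 2 * (n - k))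
    (hnum0 : ∀ ν : ℕ, ν = Nat.gcd 2 (Fintype.card F - 1) →
      ν * (ν * (2 * (n - k)) + 1) < Fintype.card F ^ (n - k) + 1) :
    CongS p r (cSet p ((Nat.card S).factorization p) (Fintype.card F) k) S := by
  intro χ hχ h0 m ε hε hs
  obtain ⟨hp, a, ha, hq⟩ := H366.OZ.exists_pow F p
  have hpf : Fact p.Prime := ⟨hp⟩
  have hrf : Fact r.Prime := ⟨hr⟩
  obtain ⟨π, hπ, hker, hkc⟩ := H366.OZ.exists_pi e hn
  set q := Fintype.card F with hqdef
  have hqN : Nat.card F = q := Nat.card_eq_fintype_card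
  have hq1 : 1 < q := Fintype.one_lt_card
  have hfin : Finite (CForm.spF F n).iso := finite_iso _
  -- numbers
  have hrq : ¬ r ∣ q := by
    intro hd
    have h1 : ((q : ℕ) : ZMod r) = 0 := (ZMod.natCast_eq_zero_iff q r).2 hd
    have h2 := pow_orderOf_eq_one ((q : ℕ) : ZMod r)
    rw [hord, h1, zero_pow (by omega)] at h2
    exact zero_ne_one h2
  have hle := le_sub_one (q := q) hr hrq
  rw [hord] at hle
  have hrp : r ≠ p := by
    rintro rfl
    exact hrq (by rw [hq]; exact dvd_pow_self r (by omega))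
  have hkr : ¬ r ∣ Nat.card π.ker := by
    rw [hkc]
    intro hd
    have := Nat.le_of_dvd two_pos (hd.trans (Nat.gcd_dvd_left _ _))
    omega
  have hkp : ¬ p ∣ Nat.card π.ker := by
    rw [hkc]
    intro hd
    have h2 : p ∣ q - 1 := hd.trans (Nat.gcd_dvd_right _ _)
    have h3 : p ∣ q := by rw [hq]; exact dvd_pow_self p (by omega)
    have h4 := Nat.dvd_sub h3 h2
    rw [Nat.sub_sub_self hq1.le] at h4
    exact hp.one_lt.ne' (Nat.dvd_one.1 h4)
  have hnum : Nat.card π.ker * (Nat.card π.ker * (2 * (n - k)) + 1) < q ^ (n - k) + 1 := hnum0 _ hkc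
  have hnum' : Nat.card π.ker * (2 * (n - k) + 1) < q ^ (n - k) + 1 := by
    refine lt_of_le_of_lt ?_ hnum
    refine Nat.mul_le_mul_left _ ?_
    have : 1 ≤ Nat.card π.ker := Nat.card_pos
    have := Nat.le_mul_of_pos_left (2 * (n - k)) (Nat.card_pos (α := π.ker))
    omega
  -- geometry
  have hfr : finrank F (Fin n ⊕ Fin n → F) = 2 * n := by
    rw [Module.finrank_fintype_fun_eq_card, Fintype.card_sum, Fintype.card_fin]; ring
  have hordN : orderOf ((Nat.card F : ℕ) : ZMod r) = 2 * (n - k) := by rw [hqN]; exact hord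
  have hdG : r ∣ Nat.card (CForm.spF F n).iso := by
    rw [card_spF, hqN]
    refine Dvd.dvd.mul_left ?_ _
    have h1 : r ∣ q ^ (2 * (n - k - 1 + 1)) - 1 := by
      have h2 : ((q ^ (2 * (n - k - 1 + 1)) : ℕ) : ZMod r) = ((1 : ℕ) : ZMod r) := by
        push_cast
        rw [show n - k - 1 + 1 = n - k by omega, ← hord, pow_orderOf_eq_one]
      have h3 := (ZMod.natCast_eq_natCast_iff _ _ _).1 h2
      exact (Nat.modEq_iff_dvd' (Nat.one_le_pow _ _ (by omega))).1 h3.symm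
    exact h1.trans (Finset.dvd_prod_of_mem _ (Finset.mem_range.2 (by omega : n - k - 1 < n)))
  let R : Sylow r (CForm.spF F n).iso := default
  obtain ⟨y, hyR, h, hRT, hC, hcyc⟩ := exists_big (F := CForm.spF F n) (r := r) (by rw [hqN]; exact hrq)
    (by rw [hfr, hordN]; omega) R hdG
  have hσ : ∀ a, (CForm.spF F n).σ a = a := fun a => by simp
  have hQ0 : ∀ v, (CForm.spF F n).Q v = 0 := fun v => by simp
  have hQ : ∀ a : (Fin n ⊕ Fin n → F) →ₗ[F] (Fin n ⊕ Fin n → F),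
      (∀ v, a ((y : (Fin n ⊕ Fin n → F) ≃ₗ[F] (Fin n ⊕ Fin n → F)) v) =
        (y : (Fin n ⊕ Fin n → F) ≃ₗ[F] (Fin n ⊕ Fin n → F)) (a v)) →
      (∀ u ∈ comS (y : (Fin n ⊕ Fin n → F) ≃ₗ[F] (Fin n ⊕ Fin n → F)),
        ∀ v ∈ comS (y : (Fin n ⊕ Fin n → F) ≃ₗ[F] (Fin n ⊕ Fin n → F)),
          (CForm.spF F n).B (a u) (a v) = (CForm.spF F n).B u v) →
      ∀ u ∈ comS (y : (Fin n ⊕ Fin n → F) ≃ₗ[F] (Fin n ⊕ Fin n → F)),
        (CForm.spF F n).Q (a u) = (CForm.spF F n).Q u := fun a _ _ u _ => by rw [hQ0, hQ0]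
  have hfix : finrank F (fixS (y : (Fin n ⊕ Fin n → F) ≃ₗ[F] (Fin n ⊕ Fin n → F))) = 2 * k := by
    have h1 := Submodule.finrank_add_eq_of_isCompl h.isCompl
    rw [h.finrank_comS, hordN, hfr] at h1
    omega
  have hKC : Ky (CForm.spF F n) y ≤ Subgroup.centralizer ((R : Subgroup (CForm.spF F n).iso) : Set _) := by
    intro g hg
    exact hC (Subgroup.mem_centralizer_singleton_iff.2 (h.Ky_comm hg).eq)
  have hKN : ∀ g ∈ Subgroup.normalizer ((R : Subgroup (CForm.spF F n).iso) : Set _), ∃ c ∈ Ky (CForm.spF F n) y,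
      ∀ x ∈ Ky (CForm.spF F n) y, g * x * g⁻¹ = c * x * c⁻¹ := fun g hg => h.inner (h.norm_pow hRT hyR hg)
  have hpK : ∀ v, Commute y v → v ∈ pSet p (CForm.spF F n).iso → v ∈ Ky (CForm.spF F n) y :=
    fun v hv hvp => h.mem_Ky_of_char hv.symm hvp
  have hjn : 1 ≤ n - k := by omega
  have h2 := h.two_good hσ hjn hordN hQ hRT hyR hC hπ hker hkr (by rw [hqN]; exact hnum')
  have hnd := h.card_cent_or hσ hjn hordN hQ hπ hker hkr (by rw [hqN]; exact hnum)
  have hKmem : ∀ g : (CForm.spF F n).iso, g ∈ Ky (CForm.spF F n) y ↔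
      ∀ u ∈ comS (y : (Fin n ⊕ Fin n → F) ≃ₗ[F] (Fin n ⊕ Fin n → F)),
        (g : (Fin n ⊕ Fin n → F) ≃ₗ[F] (Fin n ⊕ Fin n → F)) u = u := fun g => Iff.rfl
  obtain ⟨f, -, hf⟩ := tr_gen hπ hker hp hrp hkp hkr R hcyc h.orderOf_eq hyR hC hnd _ hKC h.not_dvd_Ky hKN hpK h2 hχ h0 hs
  by_cases hk0 : k = 0
  · -- `K = 1`
    have hbot : Ky (CForm.spF F n) y = ⊥ := H845.OZ.Big.fix_eq_bot h (by rw [hfix, hk0]) hKmem
    refine ⟨1, Or.inl ⟨hk0, rfl⟩, hf 1 ?_⟩
    have h1 : ∀ x : Ky (CForm.spF F n) y, x = 1 := by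
      intro x
      apply Subtype.ext
      exact Subgroup.mem_bot.1 (hbot.le x.2)
    have h3 : pSet p (Ky (CForm.spF F n) y) = {1} := by
      ext x
      rw [Set.mem_singleton_iff]
      exact ⟨fun _ => h1 x, fun hx => ⟨0, by rw [hx, orderOf_one, pow_zero]⟩⟩
    rw [h3, finsum_mem_singleton, map_one, Units.val_one, Int.cast_one]
  by_cases hex : (k = 1 ∧ Nat.card F = 2) ∨ (k = 1 ∧ Nat.card F = 3) ∨ (k = 2 ∧ Nat.card F = 2)
  · obtain ⟨c, hc, hcs⟩ := H845.OZ.Big.sum_mem_cSet (p := p) h hσ hQ0 hfix hKmem ((Nat.card S).factorization p) hex f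
    rw [hqN] at hc
    exact ⟨c, hc, hf c hcs⟩
  · have hex1 : ¬ (k = 1 ∧ Nat.card F = 2) := fun hh => hex (Or.inl hh)
    have hex2 : ¬ (k = 1 ∧ Nat.card F = 3) := fun hh => hex (Or.inr (Or.inl hh))
    have hex3 : ¬ (k = 2 ∧ Nat.card F = 2) := fun hh => hex (Or.inr (Or.inr hh))
    have hKp := H845.OZ.Big.commutator_fix_eq_top h hσ hQ0 hfix hKmem hex1 hex2 hex3
    have hcong := tr_perfect hπ hker hp hrp hkp hkr R hcyc h.orderOf_eq hyR hC hnd _ hKC h.not_dvd_Ky hKN hpK h2 hKp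
      (H366.OZ.kaw_psp e hn (p := p)).card χ hχ h0 m ε hε hs
    rw [hqN] at hex1 hex2 hex3
    refine ⟨_, Or.inr (Or.inr (Or.inr (Or.inr ⟨hk0, ?_, hex3, rfl⟩))), hcong⟩
    rintro ⟨h3, h4 | h4⟩
    · exact hex1 ⟨h3, h4⟩
    · exact hex2 ⟨h3, h4⟩

/-- **The congruences for `PSp_{2n}(q)`.** -/
theorem spCong_psp {S : Type u} [Group S] [Finite S] {F : Type} [Field F] [Fintype F] {n : ℕ} (e : S ≃* PSp n F)
    (hn : 1 ≤ n) {p : ℕ} [CharP F p] : SpCong p n (Fintype.card F) S := by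
  intro k r hk hnk hr hord
  refine congS_psp e hn hk hr hord fun ν hν => num_ineq hnk ?_
  have hq1 : 1 < Fintype.card F := Fintype.one_lt_card
  have h1 : Nat.gcd 2 (Fintype.card F - 1) ∣ 2 := Nat.gcd_dvd_left _ _
  rcases (Nat.dvd_prime Nat.prime_two).1 h1 with h2 | h2
  · exact Or.inl ⟨hν.trans h2, hq1⟩
  · right
    refine ⟨hν.trans h2, ?_⟩
    have h3 : 2 ∣ Fintype.card F - 1 := h2 ▸ Nat.gcd_dvd_right 2 (Fintype.card F - 1)
    omega

/-- The case `n - k = 2`, `q ≥ 4`. -/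
theorem congS_psp_two {S : Type u} [Group S] [Finite S] {F : Type} [Field F] [Fintype F] {n : ℕ} (e : S ≃* PSp n F)
    {p : ℕ} [CharP F p] {k r : ℕ} (hk : 2 * k < n) (hnk : n - k = 2) (hq : 4 ≤ Fintype.card F) (hr : r.Prime)
    (hord : orderOf ((Fintype.card F : ℕ) : ZMod r) = 4) :
    CongS p r (cSet p ((Nat.card S).factorization p) (Fintype.card F) k) S := by
  refine congS_psp e (by omega) hk hr (by rw [hnk, hord]) fun ν hν => ?_
  have h1 : Nat.gcd 2 (Fintype.card F - 1) ∣ 2 := Nat.gcd_dvd_left _ _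
  rw [hnk]
  have h4 := Nat.pow_le_pow_left hq 2
  rcases (Nat.dvd_prime Nat.prime_two).1 h1 with h2 | h2
  · rw [hν, h2]
    omega
  · have h3 : 2 ∣ Fintype.card F - 1 := h2 ▸ Nat.gcd_dvd_right 2 (Fintype.card F - 1)
    have h5 : 5 ≤ Fintype.card F := by omega
    have h6 := Nat.pow_le_pow_left h5 2
    rw [hν, h2]
    omega

/-- **The row `PSp_{2n}(q)`, `n ≥ 5`.** -/
theorem row_psp_five {S : Type u} [Group S] [Finite S] {F : Type} [Field F] [Fintype F] {n : ℕ} (e : S ≃* PSp n F)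
    (hs : IsSimpleGroup S) (hn : 5 ≤ n) (hex : ¬ ((n = 5 ∨ n = 6) ∧ Fintype.card F = 2)) : Row S := by
  obtain ⟨p, hp⟩ := CharP.exists F
  exact H366.OZ.row_psp e hs hn hex (spCong_psp e (by omega) (p := p))

end Cfsg.Agent.H477.OZ
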