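import Cfsg.Agent.H730.OZ.Top

/-!
# Congruences with several values (S4842, helper477)

* `CongS p r C G` : `e p^m ≡ c (mod r)` for some `c ∈ C`; `none_of_congS` : the closing criterion.
* `cSet p v q k` : the sums of the linear characters of `Sp_{2k}(q)` (or `Omega_{2k+1}(q)`) over the `p`-elements,
  `{p^(2v)}` standing for the perfect case.
* `SpCong p n q S` : all congruences used for `PSp_{2n}(q)`, `Omega_{2n+1}(q)`.
-/

set_option autoImplicit false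

open Cfsg Cfsg.Agent.Characters Cfsg.Agent.H730.OZ

namespace Cfsg.Agent.H477.OZ

universe u

variable {G : Type u} [Group G]

/-- `e p^m ≡ c (mod r)` for some `c ∈ C`, for the characters with exactly one class of zeros. -/
def CongS (p r : ℕ) (C : Set ℤ) (G : Type u) [Group G] : Prop :=
  ∀ χ : G → ℂ, IsIrrCharacter G χ → OneZero χ → ∀ (m : ℕ) (e : ℤ), (e = 1 ∨ e = -1) →
    ∑ᶠ u ∈ pSet p G, χ u = (e : ℂ) * (p : ℂ) ^ m * χ 1 → ∃ c ∈ C, (r : ℤ) ∣ e * (p : ℤ) ^ m - c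

theorem CongS.of_cong {p r k : ℕ} (h : Cong p r k G) : CongS p r {(p : ℤ) ^ k} G :=
  fun χ hχ h0 m e he hs => ⟨_, rfl, h χ hχ h0 m e he hs⟩

/-- **Closing criterion** with `CongS`. -/
theorem none_of_congS [Finite G] (hs : IsSimpleGroup G) {p : ℕ} (hp : p.Prime) {v : ℕ}
    (hv : (Nat.card G).factorization p = v) (hv0 : v ≠ 0) (hK : Kaw p G)
    (h0 : ¬ p ^ (2 * v) - 1 ∣ Nat.card G)
    (hmid : ∀ (m : ℕ) (e : ℤ), (e = 1 ∨ e = -1) → 0 < m → m < 2 * v →
      (∀ (r : ℕ) (C : Set ℤ), CongS p r C G → ∃ c ∈ C, (r : ℤ) ∣ e * (p : ℤ) ^ m - c) → False)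
    {χ : G → ℂ} (hχ : IsIrrCharacter G χ) : ¬ OneZero χ := by
  classical
  intro hz
  have := Fintype.ofFinite G
  have hd : ((charDegree χ : ℕ) : ℂ) = χ 1 := H686.CharKit.charDegree_cast (Core.isIrr_isCharacter hχ)
  have hd0 : 0 < charDegree χ := H686.CharKit.charDegree_pos ⟨χ, hχ⟩
  have hpG : p ∣ Nat.card G := by
    by_contra h
    rw [Nat.factorization_eq_zero_of_not_dvd h] at hv
    exact hv0 hv.symm
  obtain ⟨m, e, he, hsum⟩ := hK.sum χ hχ
  obtain ⟨hmle, hmtop⟩ := hK.top hp hχ he hsum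
  rw [hv] at hmle hmtop
  rcases Nat.eq_zero_or_pos m with hm0 | hm0
  · -- `m = 0`
    refine h0 ?_
    have h1 := OneZero.dvd_of_degree hp hpG hχ hz ?_
    · rwa [hK.card, hv] at h1
    · obtain ⟨z, hzz⟩ := frob hp hχ
      rw [hsum, hm0, pow_zero, mul_one, ← hd] at hzz
      have h2 : e * (charDegree χ : ℤ) = ((p ^ (Nat.card G).factorization p : ℕ) : ℤ) * z := by
        exact_mod_cast hzz
      have h3 : ((p ^ (Nat.card G).factorization p : ℕ) : ℤ) ∣ (charDegree χ : ℤ) := by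
        rcases he with rfl | rfl
        · exact ⟨z, by rw [← h2, one_mul]⟩
        · exact ⟨-z, by rw [mul_neg, ← h2]; ring⟩
      exact_mod_cast h3
  rcases Nat.lt_or_ge m (2 * v) with hlt | hge
  · exact hmid m e he hm0 hlt fun r C hrk => hrk χ hχ hz m e he hsum
  · -- `m = 2 v`
    have hall := hmtop (le_antisymm hmle hge)
    obtain ⟨u, hu⟩ := @exists_prime_orderOf_dvd_card' G _ _ p ⟨hp⟩ hpG
    have hu1 : χ u = χ 1 := hall u ⟨1, by rw [hu, pow_one]⟩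
    set K := H686.CharKit.chKer (⟨χ, hχ⟩ : IrrCharacter G) with hKdef
    have huK : u ∈ K := H686.CharKit.mem_chKer.2 hu1
    have hKtop : K = ⊤ := by
      rcases hs.eq_bot_or_eq_top_of_normal K inferInstance with h | h
      · exfalso
        rw [h, Subgroup.mem_bot] at huK
        rw [huK, orderOf_one] at hu
        exact hp.one_lt.ne hu
      · exact h
    obtain ⟨x, hx0, -⟩ := hz
    have hxK : x ∈ K := by rw [hKtop]; exact Subgroup.mem_top _
    have hx1 : χ x = χ 1 := H686.CharKit.mem_chKer.1 hxK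
    rw [hx0, ← hd] at hx1
    have : (charDegree χ : ℂ) ≠ 0 := by exact_mod_cast hd0.ne'
    exact this hx1.symm

/-- The sums of the linear characters of `Sp_{2k}(q)` over the `p`-elements. -/
def cSet (p v q k : ℕ) : Set ℤ :=
  {c | (k = 0 ∧ c = 1) ∨ (k = 1 ∧ q = 2 ∧ (c = 4 ∨ c = -2)) ∨ (k = 1 ∧ q = 3 ∧ (c = 9 ∨ c = -3)) ∨
    (k = 2 ∧ q = 2 ∧ (c = 256 ∨ c = 16)) ∨
    (k ≠ 0 ∧ ¬ (k = 1 ∧ (q = 2 ∨ q = 3)) ∧ ¬ (k = 2 ∧ q = 2) ∧ c = (p : ℤ) ^ (2 * v))}

/-- All congruences for `PSp_{2n}(q)`, `Omega_{2n+1}(q)`. -/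
def SpCong (p n q : ℕ) (S : Type u) [Group S] : Prop :=
  ∀ k r : ℕ, 2 * k < n → 3 ≤ n - k → r.Prime → orderOf ((q : ℕ) : ZMod r) = 2 * (n - k) →
    CongS p r (cSet p ((Nat.card S).factorization p) q k) S

end Cfsg.Agent.H477.OZ
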