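import Cfsg.Agent.H477.OZ.Root

/-!
# Sylow subgroups, centralizers and normalizers of big elements in isometry groups (S4842, helper477)

* `Ky F y` : the isometries trivial on `[V,y]`;
* `exists_big` : the Sylow `r`-subgroup is cyclic, its elements of order `r` are big, `C(y) = C(R)`;
* `inner` : elements conjugating `y` to a power of `y` act on `Ky F y` by inner automorphisms;
* `count` : the number of elements `t` of the torus with `t k₀` conjugate to `t₁ k₀` modulo a central subgroup `Z`.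
-/

set_option autoImplicit false
set_option linter.unusedSectionVars false

namespace Cfsg.Agent.H477.OZ

open Module Polynomial Cfsg.Agent.H477.HC

universe u v

variable {K : Type u} [Field K] {V : Type v} [AddCommGroup V] [Module K V] (F : CForm K V)

/-- the isometries trivial on `[V,y]` -/
def Ky (y : F.iso) : Subgroup F.iso where
  carrier := {g | ∀ u ∈ comS (y : V ≃ₗ[K] V), (g : V ≃ₗ[K] V) u = u}
  one_mem' := fun _ _ => rfl
  mul_mem' := by
    intro a b ha hb u hu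
    show (a : V ≃ₗ[K] V) ((b : V ≃ₗ[K] V) u) = u
    rw [hb u hu, ha u hu]
  inv_mem' := by
    intro a ha u hu
    conv_lhs => rw [← ha u hu]
    exact (a : V ≃ₗ[K] V).symm_apply_apply u

theorem mem_Ky {y g : F.iso} : g ∈ Ky F y ↔ ∀ u ∈ comS (y : V ≃ₗ[K] V), (g : V ≃ₗ[K] V) u = u := Iff.rfl

theorem mul_apply (a b : F.iso) (v : V) : ((a * b : F.iso) : V ≃ₗ[K] V) v = (a : V ≃ₗ[K] V) ((b : V ≃ₗ[K] V) v) := rfl

theorem comm_apply {a b : F.iso} (hab : Commute a b) (v : V) :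
    (a : V ≃ₗ[K] V) ((b : V ≃ₗ[K] V) v) = (b : V ≃ₗ[K] V) ((a : V ≃ₗ[K] V) v) := by
  rw [← mul_apply, hab.eq, mul_apply]

theorem comm_of_apply {a b : F.iso} (hab : ∀ v, (a : V ≃ₗ[K] V) ((b : V ≃ₗ[K] V) v) =
    (b : V ≃ₗ[K] V) ((a : V ≃ₗ[K] V) v)) : Commute a b := Subtype.ext (LinearEquiv.ext hab)

theorem coe_pow (a : F.iso) (n : ℕ) : ((a ^ n : F.iso) : V ≃ₗ[K] V) = (a : V ≃ₗ[K] V) ^ n := rfl

theorem comS_le_of {y t : V ≃ₗ[K] V} (hy : comS y ⊔ fixS y = ⊤) (hc : ∀ u ∈ comS y, t u ∈ comS y)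
    (hf : ∀ w ∈ fixS y, t w = w) : comS t ≤ comS y := by
  intro x hx
  obtain ⟨v, rfl⟩ := mem_comS.1 hx
  obtain ⟨a, ha, b, hb, rfl⟩ := Submodule.mem_sup.1 (hy ▸ Submodule.mem_top : v ∈ comS y ⊔ fixS y)
  rw [map_add, hf b hb, add_sub_add_right_eq_sub]
  exact Submodule.sub_mem _ (hc a ha) ha

/-- conjugation and commutator spaces -/
theorem comS_conj {g x x' : V ≃ₗ[K] V} (hx : ∀ v, g (x v) = x' (g v)) {u : V} (hu : u ∈ comS x) : g u ∈ comS x' := by
  obtain ⟨v, rfl⟩ := mem_comS.1 hu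
  rw [map_sub, hx]
  exact mem_comS.2 ⟨g v, rfl⟩

theorem fixS_conj {g x x' : V ≃ₗ[K] V} (hx : ∀ v, g (x v) = x' (g v)) {u : V} (hu : u ∈ fixS x) : g u ∈ fixS x' := by
  rw [mem_fixS] at hu ⊢
  rw [← hx, hu]

variable [Finite K] [FiniteDimensional K V]

section

variable {F} {y : F.iso} {r : ℕ} (h : Big (y : V ≃ₗ[K] V) r)

include h

theorem Big.decomp (x : V) : ∃ a ∈ comS (y : V ≃ₗ[K] V), ∃ b ∈ fixS (y : V ≃ₗ[K] V), a + b = x :=
  Submodule.mem_sup.1 (h.isCompl.sup_eq_top ▸ Submodule.mem_top : x ∈ comS (y : V ≃ₗ[K] V) ⊔ fixS (y : V ≃ₗ[K] V))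

theorem Big.ext {a b : F.iso} (h1 : ∀ u ∈ comS (y : V ≃ₗ[K] V), (a : V ≃ₗ[K] V) u = (b : V ≃ₗ[K] V) u)
    (h2 : ∀ u ∈ fixS (y : V ≃ₗ[K] V), (a : V ≃ₗ[K] V) u = (b : V ≃ₗ[K] V) u) : a = b := by
  refine Subtype.ext (LinearEquiv.ext fun v => ?_)
  obtain ⟨x, hx, w, hw, rfl⟩ := h.decomp v
  rw [map_add, map_add, h1 x hx, h2 w hw]

theorem Big.stab_com {g : F.iso} (hg : Commute g y) {u : V} (hu : u ∈ comS (y : V ≃ₗ[K] V)) :
    (g : V ≃ₗ[K] V) u ∈ comS (y : V ≃ₗ[K] V) :=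
  comS_conj (fun v => comm_apply F hg v) hu

theorem Big.stab_fix {g : F.iso} (hg : Commute g y) {u : V} (hu : u ∈ fixS (y : V ≃ₗ[K] V)) :
    (g : V ≃ₗ[K] V) u ∈ fixS (y : V ≃ₗ[K] V) :=
  fixS_conj (fun v => comm_apply F hg v) hu

/-- the torus is central in the centralizer -/
theorem Big.torus_comm {t c : F.iso} (ht : t ∈ torus F y) (hc : Commute c y) : Commute t c := by
  refine h.ext (fun u hu => ?_) fun w hw => ?_
  · exact h.comm_of_comm (g := ((t : V ≃ₗ[K] V) : V →ₗ[K] V)) (k := ((c : V ≃ₗ[K] V) : V →ₗ[K] V))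
      (fun v => comm_apply F ht.1 v) (fun v => comm_apply F hc v) u hu
  · rw [mul_apply, mul_apply, ht.2 w hw, ht.2 _ (h.stab_fix hc hw)]

theorem Big.mem_torus_of_pow {g : F.iso} (hg : Commute g y) {j : ℕ} (hj : g ^ r ^ j = 1) : g ∈ torus F y :=
  ⟨hg, h.trivial_fixS (g := (g : V ≃ₗ[K] V)) (fun _ hv => h.stab_fix hg hv) (j := j)
    (congrArg Subtype.val hj)⟩

theorem Big.mem_zpowers {g : F.iso} (hg : Commute g y) (hj : g ^ r = 1) : g ∈ Subgroup.zpowers y := by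
  obtain ⟨i, -, hi⟩ := h.eq_pow (g := (g : V ≃ₗ[K] V)) (congrArg Subtype.val hg.eq) (congrArg Subtype.val hj)
  have h1 := (h.mem_torus_of_pow hg (j := 1) (by rwa [pow_one])).2
  refine Subgroup.mem_zpowers_iff.2 ⟨i, ?_⟩
  rw [zpow_natCast]
  refine h.ext (fun u hu => (hi u hu).symm) fun w hw => ?_
  rw [h1 w hw, coe_pow]
  have : ∀ n : ℕ, ((y : V ≃ₗ[K] V) ^ n) w = w := by
    intro n
    induction n with
    | zero => rfl
    | succ n ih => rw [pow_apply_succ, ih]; exact mem_fixS.1 hw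
  exact this i

theorem Big.y_mem_torus : y ∈ torus F y := ⟨Commute.refl y, fun _ hw => mem_fixS.1 hw⟩

theorem Big.Ky_fix {k : F.iso} (hk : k ∈ Ky F y) {w : V} (hw : w ∈ fixS (y : V ≃ₗ[K] V)) :
    (k : V ≃ₗ[K] V) w ∈ fixS (y : V ≃ₗ[K] V) := by
  obtain ⟨a, ha, b, hb, hab⟩ := h.decomp ((k : V ≃ₗ[K] V) w)
  have h1 : a = 0 := by
    refine h.nondeg_com a ha fun u hu => ?_
    have h2 : F.B u ((k : V ≃ₗ[K] V) w) = 0 := by
      rw [← hk u hu, F.iso_B]
      exact B_com_fix F hu hw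
    rw [← hab, F.B_add_right, B_com_fix F hu hb, add_zero] at h2
    exact h2
  rw [← hab, h1, zero_add]
  exact hb

theorem Big.Ky_comm {k : F.iso} (hk : k ∈ Ky F y) : Commute k y := by
  refine h.ext (fun u hu => ?_) fun w hw => ?_
  · rw [mul_apply, mul_apply, hk u hu, hk _ (h.comS_stable u hu)]
  · rw [mul_apply, mul_apply, mem_fixS.1 hw, mem_fixS.1 (h.Ky_fix hk hw)]

theorem Big.inf_torus {g : F.iso} (h1 : g ∈ torus F y) (h2 : g ∈ Ky F y) : g = 1 :=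
  h.ext (fun u hu => h2 u hu) fun w hw => h1.2 w hw

variable [Finite F.iso]

theorem Big.not_dvd_Ky : ¬ r ∣ Nat.card (Ky F y) := by
  intro hd
  have := Fact.mk h.prime
  obtain ⟨g, hg⟩ := exists_prime_orderOf_dvd_card' r hd
  have hg1 : ((g : F.iso)) ^ r = 1 := by
    rw [← Subgroup.orderOf_coe] at hg
    rw [← hg, pow_orderOf_eq_one]
  have h1 : (g : F.iso) ∈ torus F y := h.mem_torus_of_pow (h.Ky_comm g.2) (j := 1) (by rwa [pow_one])
  have h2 : g = 1 := Subtype.ext (h.inf_torus h1 g.2)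
  rw [h2, orderOf_one] at hg
  exact h.prime.one_lt.ne hg

/-- `p`-elements of the centralizer -/
theorem Big.mem_Ky_of_char {p : ℕ} [CharP K p] [Fact p.Prime] {g : F.iso} (hg : Commute g y)
    (hp : ∃ k, orderOf g = p ^ k) : g ∈ Ky F y := by
  obtain ⟨k, hk⟩ := hp
  have h1 : g ^ p ^ k = 1 := by rw [← hk, pow_orderOf_eq_one]
  exact h.trivial_of_char (g := (g : V ≃ₗ[K] V)) (congrArg Subtype.val hg.eq) (congrArg Subtype.val h1)

/-- inner action on `Ky` -/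
theorem Big.inner {n : F.iso} (hn : ∃ i : ℕ, ¬ r ∣ i ∧ n * y * n⁻¹ = y ^ i) :
    ∃ c ∈ Ky F y, ∀ k ∈ Ky F y, n * k * n⁻¹ = c * k * c⁻¹ := by
  obtain ⟨i, hi, hni⟩ := hn
  have hny : n * y = y ^ i * n := by rw [← hni, inv_mul_cancel_right]
  -- `y` is a power of `y ^ i`
  obtain ⟨j, hj⟩ : ∃ j : ℕ, (y ^ i) ^ j = y := by
    have h1 : (orderOf y).Coprime i := by
      have : orderOf y = r := by
        have := h.ord
        rwa [Subgroup.orderOf_coe] at this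
      rw [this]
      exact (Nat.Prime.coprime_iff_not_dvd h.prime).2 hi
    exact exists_pow_eq_self_of_coprime h1.symm
  have hpow : ∀ (x : F.iso) (m : ℕ) (w : V), w ∈ fixS (x : V ≃ₗ[K] V) → w ∈ fixS ((x ^ m : F.iso) : V ≃ₗ[K] V) := by
    intro x m w hw
    rw [mem_fixS] at hw ⊢
    induction m with
    | zero => rfl
    | succ m ih =>
      rw [pow_succ, mul_apply, hw, ih]
  have hfix : ∀ w ∈ fixS (y : V ≃ₗ[K] V), (n : V ≃ₗ[K] V) w ∈ fixS (y : V ≃ₗ[K] V) := by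
    intro w hw
    have h1 : (n : V ≃ₗ[K] V) w ∈ fixS ((y ^ i : F.iso) : V ≃ₗ[K] V) :=
      fixS_conj (x := (y : V ≃ₗ[K] V)) (x' := ((y ^ i : F.iso) : V ≃ₗ[K] V)) (g := (n : V ≃ₗ[K] V)) (fun v => by
        rw [← mul_apply, hny, mul_apply]) hw
    have h2 := hpow _ j _ h1
    rwa [hj] at h2
  have hcom := h.stable_com hfix
  obtain ⟨c, hc1, hc2⟩ := h.glue (LinearMap.id) ((n : V ≃ₗ[K] V) : V →ₗ[K] V) (fun u hu => hu) hfix
    (fun _ _ _ _ => rfl) (fun _ _ => rfl) (fun u _ v _ => F.iso_B n u v) (fun u _ => F.iso_Q n u)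
  have hcK : c ∈ Ky F y := fun u hu => hc1 u hu
  -- `m = c⁻¹ n` centralizes `Ky`
  have hm1 : ∀ w ∈ fixS (y : V ≃ₗ[K] V), ((c⁻¹ * n : F.iso) : V ≃ₗ[K] V) w = w := by
    intro w hw
    rw [mul_apply]
    have h1 : (n : V ≃ₗ[K] V) w = (c : V ≃ₗ[K] V) w := (hc2 w hw).symm
    rw [h1]
    exact coe_inv_apply F c w
  have hm2 : ∀ u ∈ comS (y : V ≃ₗ[K] V), ((c⁻¹ * n : F.iso) : V ≃ₗ[K] V) u ∈ comS (y : V ≃ₗ[K] V) := by
    intro u hu
    rw [mul_apply, Subgroup.inv_mem _ hcK _ (hcom u hu)]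
    exact hcom u hu
  refine ⟨c, hcK, fun k hk => ?_⟩
  have hmk : Commute (c⁻¹ * n) k := by
    refine h.ext (fun u hu => ?_) fun w hw => ?_
    · rw [mul_apply F (c⁻¹ * n), mul_apply F k, hk u hu, hk _ (hm2 u hu)]
    · rw [mul_apply F (c⁻¹ * n), mul_apply F k, hm1 w hw, hm1 _ (h.Ky_fix hk hw)]
  have hn' : n = c * (c⁻¹ * n) := by group
  calc n * k * n⁻¹ = c * ((c⁻¹ * n) * k) * (c⁻¹ * n)⁻¹ * c⁻¹ := by group
    _ = c * (k * (c⁻¹ * n)) * (c⁻¹ * n)⁻¹ * c⁻¹ := by rw [hmk.eq]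
    _ = c * k * c⁻¹ := by group

theorem Big.orderOf_eq : orderOf y = r := by
  have := h.ord
  rwa [Subgroup.orderOf_coe] at this

/-- elements normalizing the Sylow subgroup -/
theorem Big.norm_pow {R : Subgroup F.iso} (hRT : R ≤ torus F y) (hyR : y ∈ R) {n : F.iso}
    (hn : n ∈ Subgroup.normalizer (R : Set F.iso)) : ∃ i : ℕ, ¬ r ∣ i ∧ n * y * n⁻¹ = y ^ i := by
  have h1 : n * y * n⁻¹ ∈ R := (Subgroup.mem_normalizer_iff.1 hn y).1 hyR
  have h2 : (n * y * n⁻¹) ^ r = 1 := by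
    rw [conj_pow, ← h.orderOf_eq, pow_orderOf_eq_one, mul_one, mul_inv_cancel]
  have h3 := mem_powers_iff_mem_zpowers.2 (h.mem_zpowers (hRT h1).1 h2)
  obtain ⟨i, hi⟩ := h3
  refine ⟨i, fun hd => ?_, hi.symm⟩
  have h4 : y ^ i = 1 := by
    rw [← orderOf_dvd_iff_pow_eq_one, h.orderOf_eq]
    exact hd
  have h5 : y = 1 := by
    have h6 : n * y * n⁻¹ = 1 := by rw [← hi]; exact h4
    have : y = n⁻¹ * (n * y * n⁻¹) * n := by group
    rw [this, h6]; group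
  have h6 := h.orderOf_eq
  rw [h5, orderOf_one] at h6
  exact h.prime.one_lt.ne h6

/-- the commutator space of a nontrivial element of the torus -/
theorem Big.comS_torus {t : F.iso} (ht : t ∈ torus F y) (h1 : t ≠ 1) :
    comS (t : V ≃ₗ[K] V) = comS (y : V ≃ₗ[K] V) := by
  have hle : comS (t : V ≃ₗ[K] V) ≤ comS (y : V ≃ₗ[K] V) :=
    comS_le_of (h.isCompl.sup_eq_top) (fun u hu => h.stab_com ht.1 hu) ht.2
  refine h.irr _ hle (fun s hs => comS_conj (fun v => comm_apply F ht.1.symm v) hs) fun hb => h1 ?_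
  refine Subtype.ext (LinearEquiv.ext fun v => ?_)
  have : (t : V ≃ₗ[K] V) v - v ∈ comS (t : V ≃ₗ[K] V) := mem_comS.2 ⟨v, rfl⟩
  rw [hb, Submodule.mem_bot, sub_eq_zero] at this
  exact this

/-- **Counting.** -/
theorem Big.count {Z : Subgroup F.iso} (hZ : Z ≤ Subgroup.center F.iso) (hZr : ¬ r ∣ Nat.card Z) {k₀ t₁ : F.iso}
    (hk₀ : k₀ ∈ Ky F y) (ht₁ : t₁ ∈ torus F y) (hr₁ : r ∣ orderOf t₁) (S : Finset F.iso)
    (hS : ∀ t ∈ S, t ∈ torus F y ∧ ∃ g : F.iso, ∃ c ∈ Z, g * (t₁ * k₀) * g⁻¹ = c * (t * k₀)) :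
    S.card ≤ Nat.card Z * orderOf (Nat.card K : ZMod r) := by
  classical
  obtain ⟨a, s, hs, hG⟩ := Nat.exists_eq_pow_mul_and_not_dvd (Nat.card_pos (α := F.iso)).ne' r h.prime.ne_one
  have hord : ∀ x : F.iso, ¬ r ∣ orderOf x → x ^ s = 1 := by
    intro x hx
    have h1 : orderOf x ∣ r ^ a * s := hG ▸ orderOf_dvd_natCard x
    have h2 : (orderOf x).Coprime (r ^ a) := ((Nat.Prime.coprime_iff_not_dvd h.prime).2 hx).symm.pow_right a
    exact orderOf_dvd_iff_pow_eq_one.1 (h2.dvd_of_dvd_mul_left h1)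
  have hk1 : k₀ ^ s = 1 := by
    refine hord k₀ fun hd => h.not_dvd_Ky (hd.trans ?_)
    have := orderOf_dvd_natCard (⟨k₀, hk₀⟩ : Ky F y)
    rwa [Subgroup.orderOf_mk] at this
  have hc1 : ∀ c ∈ Z, c ^ s = 1 := by
    intro c hc
    refine hord c fun hd => hZr (hd.trans ?_)
    have := orderOf_dvd_natCard (⟨c, hc⟩ : Z)
    rwa [Subgroup.orderOf_mk] at this
  have ht1 : t₁ ^ s ≠ 1 := fun h1 => hs (hr₁.trans (orderOf_dvd_of_pow_eq_one h1))
  have hcom1 : comS ((t₁ ^ s : F.iso) : V ≃ₗ[K] V) = comS (y : V ≃ₗ[K] V) :=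
    h.comS_torus (Subgroup.pow_mem _ ht₁ s) ht1
  -- the witnesses map the commutator space onto itself
  have hgst : ∀ t ∈ torus F y, ∀ g : F.iso, ∀ c ∈ Z, g * (t₁ * k₀) * g⁻¹ = c * (t * k₀) →
      (comS (y : V ≃ₗ[K] V)).map ((g : V ≃ₗ[K] V) : V →ₗ[K] V) = comS (y : V ≃ₗ[K] V) := by
    intro t ht g c hc hg
    have e1 : (g * (t₁ * k₀) * g⁻¹) ^ s = g * t₁ ^ s * g⁻¹ := by
      rw [conj_pow, (h.torus_comm ht₁ (h.Ky_comm hk₀)).mul_pow, hk1, mul_one]
    have e2 : (c * (t * k₀)) ^ s = t ^ s := by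
      have h3 : Commute c (t * k₀) := (Subgroup.mem_center_iff.1 (hZ hc) _).symm
      rw [h3.mul_pow, hc1 c hc, one_mul, (h.torus_comm ht (h.Ky_comm hk₀)).mul_pow, hk1, mul_one]
    have e3 : g * t₁ ^ s = t ^ s * g := by
      rw [← e2, ← hg, e1, inv_mul_cancel_right]
    have h4 : comS ((t ^ s : F.iso) : V ≃ₗ[K] V) ≤ comS (y : V ≃ₗ[K] V) :=
      comS_le_of (h.isCompl.sup_eq_top) (fun u hu => h.stab_com (Subgroup.pow_mem _ ht s).1 hu)
        (Subgroup.pow_mem _ ht s).2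
    apply Submodule.eq_of_le_of_finrank_eq
    · rintro _ ⟨u, hu, rfl⟩
      refine h4 ?_
      rw [SetLike.mem_coe, ← hcom1] at hu
      exact comS_conj (x := ((t₁ ^ s : F.iso) : V ≃ₗ[K] V)) (x' := ((t ^ s : F.iso) : V ≃ₗ[K] V))
        (g := (g : V ≃ₗ[K] V)) (fun v => by rw [← mul_apply, e3, mul_apply]) hu
    · exact LinearEquiv.finrank_map_eq (g : V ≃ₗ[K] V) _
  obtain ⟨m, hm0, hmD, hm⟩ := h.exists_min (f := ((t₁ : V ≃ₗ[K] V) : V →ₗ[K] V)) (fun v => comm_apply F ht₁.1 v)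
  have hcount : ∀ c ∈ Z, (S.filter fun t => ∃ g : F.iso, g * (t₁ * k₀) * g⁻¹ = c * (t * k₀)).card ≤
      orderOf (Nat.card K : ZMod r) := by
    intro c hc
    have hcc : ∀ x : F.iso, Commute c x := fun x => (Subgroup.mem_center_iff.1 (hZ hc) x).symm
    refine (h.card_roots _ (fun t : F.iso => (((c * t : F.iso) : V ≃ₗ[K] V) : V →ₗ[K] V)) ?_ ?_ hm0 ?_).trans hmD
    · intro t ht v
      have htT := (hS t (Finset.mem_filter.1 ht).1).1
      exact comm_apply F ((hcc y).mul_left htT.1) v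
    · intro t ht t' ht' htt
      have htT := (hS t (Finset.mem_filter.1 ht).1).1
      have htT' := (hS t' (Finset.mem_filter.1 ht').1).1
      refine h.ext (fun u hu => ?_) fun w hw => by rw [htT.2 w hw, htT'.2 w hw]
      exact (c : V ≃ₗ[K] V).injective (htt u hu)
    · intro t ht u' hu'
      have htT := (hS t (Finset.mem_filter.1 ht).1).1
      obtain ⟨g, hg⟩ := (Finset.mem_filter.1 ht).2
      have hmap := hgst t htT g c hc hg
      have key : ∀ u ∈ comS (y : V ≃ₗ[K] V), ((c * t : F.iso) : V ≃ₗ[K] V) ((g : V ≃ₗ[K] V) u) =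
          (g : V ≃ₗ[K] V) ((t₁ : V ≃ₗ[K] V) u) := by
        intro u hu
        have hgu : (g : V ≃ₗ[K] V) u ∈ comS (y : V ≃ₗ[K] V) := by
          rw [← hmap]; exact ⟨u, hu, rfl⟩
        have e1 : g * (t₁ * k₀) = c * (t * k₀) * g := by rw [← hg, inv_mul_cancel_right]
        have e2 := congrArg (fun x : F.iso => (x : V ≃ₗ[K] V) u) e1
        simp only [mul_apply] at e2
        rw [hk₀ u hu, hk₀ _ hgu] at e2
        rw [mul_apply]
        exact e2.symm
      have key2 : ∀ s : K[X], ∀ u ∈ comS (y : V ≃ₗ[K] V),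
          aeval (((c * t : F.iso) : V ≃ₗ[K] V) : V →ₗ[K] V) s ((g : V ≃ₗ[K] V) u) =
          (g : V ≃ₗ[K] V) (aeval ((t₁ : V ≃ₗ[K] V) : V →ₗ[K] V) s u) := by
        intro s
        have hpw : ∀ n : ℕ, ∀ u ∈ comS (y : V ≃ₗ[K] V),
            (((((c * t : F.iso) : V ≃ₗ[K] V) : V →ₗ[K] V)) ^ n) ((g : V ≃ₗ[K] V) u) =
            (g : V ≃ₗ[K] V) (((((t₁ : V ≃ₗ[K] V) : V →ₗ[K] V)) ^ n) u) := by
          intro n
          induction n with
          | zero => intro u _; rfl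
          | succ n ih =>
            intro u hu
            rw [pow_succ, pow_succ]
            show (((((c * t : F.iso) : V ≃ₗ[K] V) : V →ₗ[K] V)) ^ n)
              (((c * t : F.iso) : V ≃ₗ[K] V) ((g : V ≃ₗ[K] V) u)) =
              (g : V ≃ₗ[K] V) (((((t₁ : V ≃ₗ[K] V) : V →ₗ[K] V)) ^ n) ((t₁ : V ≃ₗ[K] V) u))
            rw [key u hu]
            exact ih _ (h.stab_com ht₁.1 hu)
        induction s using Polynomial.induction_on' with
        | add p q hp hq =>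
          intro u hu
          rw [map_add, map_add, LinearMap.add_apply, LinearMap.add_apply, hp u hu, hq u hu, map_add]
        | monomial n a =>
          intro u hu
          rw [aeval_monomial, aeval_monomial]
          show (algebraMap K (V →ₗ[K] V)) a ((((((c * t : F.iso) : V ≃ₗ[K] V) : V →ₗ[K] V)) ^ n)
            ((g : V ≃ₗ[K] V) u)) = (g : V ≃ₗ[K] V) ((algebraMap K (V →ₗ[K] V)) a
              (((((t₁ : V ≃ₗ[K] V) : V →ₗ[K] V)) ^ n) u))
          rw [hpw n u hu]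
          exact ((g : V ≃ₗ[K] V).map_smul a _).symm
      rw [← hmap] at hu'
      obtain ⟨u, hu, rfl⟩ := hu'
      have := key2 m u hu
      rw [hm u hu, map_zero] at this
      exact this
  let ZF : Finset F.iso := (Set.toFinite (Z : Set F.iso)).toFinset
  have hZF : ∀ c, c ∈ ZF ↔ c ∈ Z := fun c => (Set.Finite.mem_toFinset _)
  have hcard : ZF.card = Nat.card Z := by
    rw [← Set.ncard_eq_toFinset_card (Z : Set F.iso)]
    rfl
  have hsub : S ⊆ ZF.biUnion fun c => S.filter fun t => ∃ g : F.iso, g * (t₁ * k₀) * g⁻¹ = c * (t * k₀) := by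
    intro t ht
    obtain ⟨-, g, c, hc, hg⟩ := hS t ht
    exact Finset.mem_biUnion.2 ⟨c, (hZF c).2 hc, Finset.mem_filter.2 ⟨ht, g, hg⟩⟩
  calc S.card ≤ _ := Finset.card_le_card hsub
    _ ≤ ZF.card * orderOf (Nat.card K : ZMod r) :=
      Finset.card_biUnion_le_card_mul _ _ _ fun c hc => hcount c ((hZF c).1 hc)
    _ = _ := by rw [hcard]

end

/-- **The Sylow subgroup.** -/
theorem exists_big {F : CForm K V} [Finite F.iso] {r : ℕ} [hr : Fact r.Prime] (hK : ¬ r ∣ Nat.card K)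
    (hdim : finrank K V < 2 * orderOf (Nat.card K : ZMod r)) (R : Sylow r F.iso) (hd : r ∣ Nat.card F.iso) :
    ∃ y ∈ (R : Subgroup F.iso), Big (y : V ≃ₗ[K] V) r ∧ (R : Subgroup F.iso) ≤ torus F y ∧
      Subgroup.centralizer ({y} : Set F.iso) ≤ Subgroup.centralizer ((R : Subgroup F.iso) : Set F.iso) ∧
      IsCyclic (R : Subgroup F.iso) := by
  have hR : r ∣ Nat.card (R : Subgroup F.iso) := R.dvd_card_of_dvd_card hd
  have hRp : IsPGroup r (R : Subgroup F.iso) := R.isPGroup'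
  have : Nontrivial (R : Subgroup F.iso) := by
    rw [← Finite.one_lt_card_iff_nontrivial]
    exact hr.out.one_lt.trans_le (Nat.le_of_dvd Nat.card_pos hR)
  have hZ := hRp.center_nontrivial
  obtain ⟨n, hn, hcard⟩ := (hRp.to_subgroup (Subgroup.center _)).nontrivial_iff_card.1 hZ
  have hrZ : r ∣ Nat.card (Subgroup.center (R : Subgroup F.iso)) := by
    rw [hcard]; exact dvd_pow_self r hn.ne'
  obtain ⟨z, hz⟩ := exists_prime_orderOf_dvd_card' r hrZ
  have hyR : (((z : (R : Subgroup F.iso)) : F.iso)) ∈ (R : Subgroup F.iso) := (z : (R : Subgroup F.iso)).2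
  have hyo : orderOf ((z : (R : Subgroup F.iso)) : F.iso) = r := by
    rw [Subgroup.orderOf_coe, Subgroup.orderOf_coe, hz]
  have hcomm : ∀ t ∈ (R : Subgroup F.iso), Commute t ((z : (R : Subgroup F.iso)) : F.iso) := fun t ht =>
    congrArg Subtype.val (Subgroup.mem_center_iff.1 z.2 ⟨t, ht⟩)
  generalize ((z : (R : Subgroup F.iso)) : F.iso) = y at *
  have hbig : Big (y : V ≃ₗ[K] V) r := ⟨hr.out, by rw [Subgroup.orderOf_coe]; exact hyo, hK, hdim⟩
  have hRT : (R : Subgroup F.iso) ≤ torus F y := by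
    intro t ht
    obtain ⟨k, hk⟩ := (IsPGroup.iff_orderOf.1 hRp) ⟨t, ht⟩
    refine hbig.mem_torus_of_pow (hcomm t ht) (j := k) ?_
    rw [← hk, Subgroup.orderOf_mk]
    exact pow_orderOf_eq_one t
  refine ⟨y, hyR, hbig, hRT, ?_, ?_⟩
  · intro c hc
    rw [Subgroup.mem_centralizer_iff]
    intro t ht
    have hcy : Commute c y := (Subgroup.mem_centralizer_singleton_iff.1 hc)
    exact (hbig.torus_comm (hRT ht) hcy).eq
  · refine hbig.isCyclic_of (F.iso.subtype.comp (R : Subgroup F.iso).subtype) (fun a => ?_) fun a ha => ?_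
    · exact congrArg Subtype.val (hcomm a a.2).eq
    · exact Subtype.ext (hbig.ext ha fun w hw => (hRT a.2).2 w hw)

end Cfsg.Agent.H477.OZ
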