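import Cfsg.Agent.H477.OZ.Geo
import Cfsg.Agent.H279.OZ.KOne

/-!
# Two classes of products with big elements (S4842, helper477)

`F.iso` modulo a central subgroup `Z` of order prime to `r`.
* `Big.two_classes` : for `k₀ ∈ Ky` some `t` in the torus of order divisible by `r` is such that `t k₀`, `y k₀` are not
  conjugate modulo `Z`;
* `Big.two_good` : the same in the form needed for `H279.OZ.alt_inner`;
* `Big.card_cent_or` : `|C(y)| ≠ r |Z|` or some `y ^ m` is not conjugate to `y` modulo `Z`.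
-/

set_option autoImplicit false
set_option linter.unusedSectionVars false

namespace Cfsg.Agent.H477.OZ

open Module Polynomial Cfsg.Agent.H477.HC

universe u v w

variable {K : Type u} [Field K] {V : Type v} [AddCommGroup V] [Module K V] [Finite K] [FiniteDimensional K V]
variable {F : CForm K V} {y : F.iso} {r : ℕ} (h : Big (y : V ≃ₗ[K] V) r) [Finite F.iso]

theorem le_sub_one {q r : ℕ} (hr : r.Prime) (hq : ¬ r ∣ q) : orderOf (q : ZMod r) + 1 ≤ r := by
  have := Fact.mk hr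
  have hq0 : (q : ZMod r) ≠ 0 := by rwa [Ne, ZMod.natCast_eq_zero_iff]
  have h1 : orderOf (q : ZMod r) ∣ r - 1 := orderOf_dvd_of_pow_eq_one (ZMod.pow_card_sub_one_eq_one hq0)
  have h2 := Nat.le_of_dvd (by have := hr.two_le; omega) h1
  have := hr.two_le
  omega

/-- conjugacy modulo the kernel -/
theorem conj_of_isConj {G : Type*} {S : Type*} [Group G] [Group S] {π : G →* S} (hπ : Function.Surjective π) {a b : G}
    (hab : IsConj (π a) (π b)) : ∃ g : G, ∃ c ∈ π.ker, g * a * g⁻¹ = c * b := by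
  obtain ⟨s, hs⟩ := isConj_iff.1 hab
  obtain ⟨g, rfl⟩ := hπ s
  refine ⟨g, g * a * g⁻¹ * b⁻¹, ?_, by group⟩
  rw [MonoidHom.mem_ker, map_mul, map_inv, map_mul, map_mul, map_inv, hs, mul_inv_cancel]

include h

theorem Big.card_ker_torus [Fact r.Prime] (T' : Finset F.iso)
    (hT' : ∀ t ∈ T', t ∈ torus F y ∧ ¬ r ∣ orderOf t) : T'.card * r ≤ Nat.card (torus F y) := by
  classical
  have := Fintype.ofFinite F.iso
  let ZF : Finset F.iso := (Set.toFinite (Subgroup.zpowers y : Set F.iso)).toFinset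
  have hZF : ∀ c, c ∈ ZF ↔ c ∈ Subgroup.zpowers y := fun c => (Set.Finite.mem_toFinset _)
  have hcard : ZF.card = r := by
    rw [← Set.ncard_eq_toFinset_card (Subgroup.zpowers y : Set F.iso), ← h.orderOf_eq, ← Nat.card_zpowers]
    rfl
  let TF : Finset F.iso := (Set.toFinite (torus F y : Set F.iso)).toFinset
  have hTF : ∀ c, c ∈ TF ↔ c ∈ torus F y := fun c => (Set.Finite.mem_toFinset _)
  have hcardT : TF.card = Nat.card (torus F y) := by
    rw [← Set.ncard_eq_toFinset_card (torus F y : Set F.iso)]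
    rfl
  have hzt : ∀ z ∈ Subgroup.zpowers y, z ∈ torus F y := fun z hz =>
    (Subgroup.zpowers_le.2 h.y_mem_torus) hz
  have hzo : ∀ z ∈ Subgroup.zpowers y, ∃ a : ℕ, orderOf z = r ^ a := by
    intro z hz
    have h1 : orderOf z ∣ r := by
      rw [← h.orderOf_eq]
      exact orderOf_dvd_of_mem_zpowers hz
    rcases (Nat.dvd_prime h.prime).1 h1 with h2 | h2
    · exact ⟨0, by rw [h2, pow_zero]⟩
    · exact ⟨1, by rw [h2, pow_one]⟩
  rw [← hcardT]
  calc T'.card * r = (ZF ×ˢ T').card := by rw [Finset.card_product, hcard, mul_comm]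
    _ ≤ TF.card := by
      refine Finset.card_le_card_of_injOn (fun p => p.1 * p.2) ?_ ?_
      · rintro ⟨z, t⟩ hp
        obtain ⟨h1, h2⟩ := Finset.mem_product.1 hp
        exact (hTF _).2 (Subgroup.mul_mem _ (hzt z ((hZF z).1 h1)) (hT' t h2).1)
      · rintro ⟨z, t⟩ hp ⟨z', t'⟩ hp' heq
        obtain ⟨h1, h2⟩ := Finset.mem_product.1 hp
        obtain ⟨h1', h2'⟩ := Finset.mem_product.1 hp'
        have hz := (hZF z).1 h1
        have hz' := (hZF z').1 h1'
        have h3 := H279.OZ.conj_parts (r := r) (hzo z hz) (hzo z' hz') (hT' t h2).2 (hT' t' h2').2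
          (h.torus_comm (hzt z hz) (hT' t h2).1.1) (h.torus_comm (hzt z' hz') (hT' t' h2').1.1) (c := 1)
          (by rw [one_mul, inv_one, mul_one]; exact heq)
        simp only [one_mul, inv_one, mul_one] at h3
        rw [h3.1, h3.2]

/-- **Two classes.** -/
theorem Big.two_classes (hσ : ∀ a, F.σ a = a) {j : ℕ} (hj : 1 ≤ j) (hD : orderOf (Nat.card K : ZMod r) = 2 * j)
    (hQ : ∀ a : V →ₗ[K] V, (∀ v, a ((y : V ≃ₗ[K] V) v) = (y : V ≃ₗ[K] V) (a v)) →
      (∀ u ∈ comS (y : V ≃ₗ[K] V), ∀ v ∈ comS (y : V ≃ₗ[K] V), F.B (a u) (a v) = F.B u v) →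
      ∀ u ∈ comS (y : V ≃ₗ[K] V), F.Q (a u) = F.Q u)
    {Z : Subgroup F.iso} (hZ : Z ≤ Subgroup.center F.iso) (hZr : ¬ r ∣ Nat.card Z)
    (hnum : Nat.card Z * (2 * j + 1) < Nat.card K ^ j + 1) {k₀ : F.iso} (hk₀ : k₀ ∈ Ky F y) :
    ∃ t ∈ torus F y, r ∣ orderOf t ∧ ¬ ∃ g : F.iso, ∃ c ∈ Z, g * (y * k₀) * g⁻¹ = c * (t * k₀) := by
  classical
  have := Fact.mk h.prime
  have := Fintype.ofFinite F.iso
  by_contra hcon
  push Not at hcon
  let S : Finset F.iso := Finset.univ.filter fun t => t ∈ torus F y ∧ r ∣ orderOf t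
  let T' : Finset F.iso := Finset.univ.filter fun t => t ∈ torus F y ∧ ¬ r ∣ orderOf t
  let T : Finset F.iso := Finset.univ.filter fun t => t ∈ torus F y
  have hT : T.card = Nat.card (torus F y) := by
    rw [Nat.card_eq_fintype_card, Fintype.card_subtype]
  have hST : S.card + T'.card = T.card := by
    rw [← Finset.card_filter_add_card_filter_not (s := T) (fun t => r ∣ orderOf t), Finset.filter_filter,
      Finset.filter_filter]
  have h1 := h.count hZ hZr hk₀ h.y_mem_torus (by rw [h.orderOf_eq]) S fun t ht => by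
    obtain ⟨-, h1, h2⟩ := Finset.mem_filter.1 ht
    exact ⟨h1, hcon t h1 h2⟩
  have h2 := h.card_ker_torus T' fun t ht => (Finset.mem_filter.1 ht).2
  have h3 := h.card_torus hσ hj hD hQ
  have h4 := le_sub_one (q := Nat.card K) h.prime h.ndvd
  rw [hD] at h1 h4
  rw [← hT] at h2 h3
  have h5 := h.prime.two_le
  set ν := Nat.card Z
  set q := Nat.card K ^ j
  set s := S.card
  set t := T.card
  set t' := T'.card
  have h6 : t * (r - 1) ≤ s * r := by
    have e1 : t * r ≤ s * r + t := by nlinarith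
    have e2 : t * (r - 1) + t = t * r := by
      obtain ⟨r', rfl⟩ : ∃ r', r = r' + 1 := ⟨r - 1, by omega⟩
      rw [Nat.add_sub_cancel]; ring
    omega
  obtain ⟨r', rfl⟩ : ∃ r', r = r' + 1 := ⟨r - 1, by omega⟩
  rw [Nat.add_sub_cancel] at h6
  have h7 : ν * (2 * j + 1) + 1 ≤ t := by omega
  have h8 : (ν * (2 * j + 1) + 1) * r' ≤ ν * (2 * j) * (r' + 1) :=
    (Nat.mul_le_mul_right _ h7).trans (h6.trans (Nat.mul_le_mul_right _ h1))
  have h9 : 2 * j ≤ r' := by omega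
  have h10 : ν * (2 * j) ≤ ν * r' := Nat.mul_le_mul_left _ h9
  nlinarith

/-- good elements of the torus -/
theorem Big.good {R : Subgroup F.iso}
    (hC : Subgroup.centralizer ({y} : Set F.iso) ≤ Subgroup.centralizer (R : Set F.iso)) {z : F.iso}
    (hz : z ∈ torus F y) (hz1 : z ≠ 1) {a : ℕ} (ha : orderOf z = r ^ a) :
    Subgroup.centralizer ({z} : Set F.iso) ≤ Subgroup.centralizer (R : Set F.iso) := by
  have hr := h.prime
  have ha0 : a ≠ 0 := by
    rintro rfl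
    rw [pow_zero] at ha
    exact hz1 (orderOf_eq_one_iff.1 ha)
  obtain ⟨b, rfl⟩ : ∃ b, a = b + 1 := ⟨a - 1, by omega⟩
  have hw : orderOf (z ^ r ^ b) = r := by
    rw [orderOf_pow_of_dvd (pow_ne_zero _ hr.ne_zero) (by rw [ha]; exact pow_dvd_pow r (Nat.le_succ b)), ha,
      pow_succ, Nat.mul_div_cancel_left _ (pow_pos hr.pos b)]
  have hwT := Subgroup.pow_mem _ hz (r ^ b)
  have h1 : z ^ r ^ b ∈ Subgroup.zpowers y := h.mem_zpowers hwT.1 (by
    have := pow_orderOf_eq_one (z ^ r ^ b)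
    rwa [hw] at this)
  have h2 : Subgroup.zpowers (z ^ r ^ b) = Subgroup.zpowers y := by
    apply Subgroup.eq_of_le_of_card_ge (Subgroup.zpowers_le.2 h1)
    rw [Nat.card_zpowers, Nat.card_zpowers, h.orderOf_eq, hw]
  have h3 : y ∈ Subgroup.zpowers z := by
    have h4 : y ∈ Subgroup.zpowers (z ^ r ^ b) := h2 ▸ Subgroup.mem_zpowers y
    exact (Subgroup.zpowers_le.2 (Subgroup.pow_mem _ (Subgroup.mem_zpowers z) _)) h4
  intro c hc
  refine hC ?_
  rw [Subgroup.mem_centralizer_singleton_iff] at hc ⊢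
  obtain ⟨i, rfl⟩ := Subgroup.mem_zpowers_iff.1 h3
  exact ((show Commute c z from hc).zpow_right i).eq

theorem Big.split [Fact r.Prime] {R : Sylow r F.iso} (hRT : (R : Subgroup F.iso) ≤ torus F y)
    (hC : Subgroup.centralizer ({y} : Set F.iso) ≤ Subgroup.centralizer ((R : Subgroup F.iso) : Set F.iso))
    {t : F.iso} (ht : t ∈ torus F y) (hrt : r ∣ orderOf t) :
    ∃ y' t' : F.iso, t = y' * t' ∧ y' ∈ R ∧
      Subgroup.centralizer ({y'} : Set F.iso) ≤ Subgroup.centralizer ((R : Subgroup F.iso) : Set F.iso) ∧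
      t' ∈ Subgroup.centralizer ((R : Subgroup F.iso) : Set F.iso) ∧ (∀ x ∈ Ky F y, t' * x = x * t') ∧
      ¬ r ∣ orderOf t' := by
  have := Fintype.ofFinite F.iso
  obtain ⟨y', t', h1, h2, h3, h4⟩ := H279.OZ.exists_parts (R := R) (l := t)
    (hC (Subgroup.mem_centralizer_singleton_iff.2 ht.1.eq))
  have hy'T := hRT h3
  have ht'T : t' ∈ torus F y := by
    have : t' = y'⁻¹ * t := by rw [h1]; group
    rw [this]
    exact Subgroup.mul_mem _ (Subgroup.inv_mem _ hy'T) ht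
  have hne : y' ≠ 1 := by
    rintro rfl
    rw [one_mul] at h1
    exact h4 (h1 ▸ hrt)
  obtain ⟨a, ha⟩ := H279.OZ.rpow_of_mem R h3
  exact ⟨y', t', h1, h3, h.good hC hy'T hne ha, h2, fun x hx => (h.torus_comm ht'T (h.Ky_comm hx)).eq, h4⟩

/-- **Two classes**, in the form needed for `alt_inner`. -/
theorem Big.two_good [Fact r.Prime] (hσ : ∀ a, F.σ a = a) {j : ℕ} (hj : 1 ≤ j)
    (hD : orderOf (Nat.card K : ZMod r) = 2 * j)
    (hQ : ∀ a : V →ₗ[K] V, (∀ v, a ((y : V ≃ₗ[K] V) v) = (y : V ≃ₗ[K] V) (a v)) →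
      (∀ u ∈ comS (y : V ≃ₗ[K] V), ∀ v ∈ comS (y : V ≃ₗ[K] V), F.B (a u) (a v) = F.B u v) →
      ∀ u ∈ comS (y : V ≃ₗ[K] V), F.Q (a u) = F.Q u)
    {R : Sylow r F.iso} (hRT : (R : Subgroup F.iso) ≤ torus F y) (hyR : y ∈ R)
    (hC : Subgroup.centralizer ({y} : Set F.iso) ≤ Subgroup.centralizer ((R : Subgroup F.iso) : Set F.iso))
    {S : Type w} [Group S] {π : F.iso →* S} (hπ : Function.Surjective π) (hker : π.ker ≤ Subgroup.center F.iso)
    (hZr : ¬ r ∣ Nat.card π.ker) (hnum : Nat.card π.ker * (2 * j + 1) < Nat.card K ^ j + 1) (k₀ : F.iso)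
    (hk₀ : k₀ ∈ Ky F y) :
    ∃ y₁ ∈ R, ∃ t₁ ∈ Subgroup.centralizer ((R : Subgroup F.iso) : Set F.iso),
    ∃ y₂ ∈ R, ∃ t₂ ∈ Subgroup.centralizer ((R : Subgroup F.iso) : Set F.iso),
      Subgroup.centralizer ({y₁} : Set F.iso) ≤ Subgroup.centralizer ((R : Subgroup F.iso) : Set F.iso) ∧
      (∀ x ∈ Ky F y, t₁ * x = x * t₁) ∧ ¬ r ∣ orderOf t₁ ∧
      Subgroup.centralizer ({y₂} : Set F.iso) ≤ Subgroup.centralizer ((R : Subgroup F.iso) : Set F.iso) ∧
      (∀ x ∈ Ky F y, t₂ * x = x * t₂) ∧ ¬ r ∣ orderOf t₂ ∧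
      ¬ IsConj (π (y₁ * t₁ * k₀)) (π (y₂ * t₂ * k₀)) := by
  obtain ⟨t, ht, hrt, hno⟩ := h.two_classes hσ hj hD hQ hker hZr hnum hk₀
  obtain ⟨y', t', h1, h2, h3, h4, h5, h6⟩ := h.split hRT hC ht hrt
  refine ⟨y, hyR, 1, Subgroup.one_mem _, y', h2, t', h4, hC, fun x _ => by rw [one_mul, mul_one], ?_, h3, h5, h6,
    fun hcon => hno ?_⟩
  · rw [orderOf_one]
    exact fun hd => h.prime.one_lt.ne' (Nat.dvd_one.1 hd)
  · rw [mul_one, ← h1] at hcon
    exact conj_of_isConj hπ hcon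

theorem Big.card_cent_or (hσ : ∀ a, F.σ a = a) {j : ℕ} (hj : 1 ≤ j)
    (hD : orderOf (Nat.card K : ZMod r) = 2 * j)
    (hQ : ∀ a : V →ₗ[K] V, (∀ v, a ((y : V ≃ₗ[K] V) v) = (y : V ≃ₗ[K] V) (a v)) →
      (∀ u ∈ comS (y : V ≃ₗ[K] V), ∀ v ∈ comS (y : V ≃ₗ[K] V), F.B (a u) (a v) = F.B u v) →
      ∀ u ∈ comS (y : V ≃ₗ[K] V), F.Q (a u) = F.Q u)
    {S : Type w} [Group S] {π : F.iso →* S} (hπ : Function.Surjective π) (hker : π.ker ≤ Subgroup.center F.iso)
    (hZr : ¬ r ∣ Nat.card π.ker)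
    (hnum : Nat.card π.ker * (Nat.card π.ker * (2 * j) + 1) < Nat.card K ^ j + 1) :
    Nat.card (Subgroup.centralizer ({y} : Set F.iso)) ≠ r * Nat.card π.ker ∨
      ∃ m : ℕ, ¬ r ∣ m ∧ ¬ IsConj (π y) (π y ^ m) := by
  classical
  by_contra hcon
  push Not at hcon
  obtain ⟨hc1, hc2⟩ := hcon
  have hr := h.prime
  let S' : Finset F.iso := (Finset.Ico 1 r).image fun m => y ^ m
  have hS' : S'.card = r - 1 := by
    rw [Finset.card_image_of_injOn, Nat.card_Ico]
    intro a ha b hb hab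
    have ha' := Finset.mem_Ico.1 ha
    have hb' := Finset.mem_Ico.1 hb
    exact pow_injOn_Iio_orderOf (by rw [h.orderOf_eq]; exact ha'.2) (by rw [h.orderOf_eq]; exact hb'.2) hab
  have h1 := h.count (k₀ := 1) hker hZr (Subgroup.one_mem _) h.y_mem_torus (by rw [h.orderOf_eq]) S' fun t ht => by
    obtain ⟨m, hm, rfl⟩ := Finset.mem_image.1 ht
    have hm' := Finset.mem_Ico.1 hm
    refine ⟨Subgroup.pow_mem _ h.y_mem_torus m, ?_⟩
    rw [mul_one, mul_one]
    refine conj_of_isConj hπ ?_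
    rw [map_pow]
    exact hc2 m fun hd => by
      have := Nat.le_of_dvd (by omega) hd
      omega
  have h3 := h.card_torus hσ hj hD hQ
  have h4 : Nat.card (torus F y) ≤ Nat.card (Subgroup.centralizer ({y} : Set F.iso)) := by
    refine Subgroup.card_le_of_le fun t ht => ?_
    exact Subgroup.mem_centralizer_singleton_iff.2 ht.1.eq
  rw [hS', hD] at h1
  rw [hc1] at h4
  have h5 : r ≤ Nat.card π.ker * (2 * j) + 1 := by omega
  have h6 : r * Nat.card π.ker ≤ Nat.card π.ker * (Nat.card π.ker * (2 * j) + 1) := by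
    rw [mul_comm]
    exact Nat.mul_le_mul_left _ h5
  omega

end Cfsg.Agent.H477.OZ
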