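import Cfsg.Agent.H477.OZ.Lin
import Cfsg.Agent.H477.HC.Form

/-!
# Big elements in isometry groups (S4842, helper477)

`y : F.iso` with `Big y r`: `V = [V,y] ⊥ C_V(y)`; glueing; the torus `T` of the norm one elements.
-/

set_option autoImplicit false
set_option linter.unusedSectionVars false

namespace Cfsg.Agent.H477.OZ

open Module Polynomial Cfsg.Agent.H477.HC

universe u v

variable {K : Type u} [Field K] {V : Type v} [AddCommGroup V] [Module K V] (F : CForm K V)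

theorem B_com_fix {y : F.iso} {u w : V} (hu : u ∈ comS (y : V ≃ₗ[K] V)) (hw : w ∈ fixS (y : V ≃ₗ[K] V)) :
    F.B u w = 0 := by
  obtain ⟨v, rfl⟩ := mem_comS.1 hu
  rw [mem_fixS] at hw
  rw [F.B_sub_left]
  conv_lhs => arg 1; rw [← hw, F.iso_B]
  rw [sub_self]

theorem B_fix_com {y : F.iso} {u w : V} (hu : u ∈ comS (y : V ≃ₗ[K] V)) (hw : w ∈ fixS (y : V ≃ₗ[K] V)) :
    F.B w u = 0 := F.B_eq_zero (B_com_fix F hu hw)

theorem Q_com_fix {y : F.iso} {u w : V} (hu : u ∈ comS (y : V ≃ₗ[K] V)) (hw : w ∈ fixS (y : V ≃ₗ[K] V)) :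
    F.Q (u + w) = F.Q u + F.Q w := by
  rw [F.Q_add, B_com_fix F hu hw, F.T_zero, add_zero]

variable [Finite K] [FiniteDimensional K V]

variable {F} {y : F.iso} {r : ℕ} (h : Big (y : V ≃ₗ[K] V) r)

include h

theorem Big.nondeg_com (u : V) (hu : u ∈ comS (y : V ≃ₗ[K] V)) (h0 : ∀ v ∈ comS (y : V ≃ₗ[K] V), F.B v u = 0) :
    u = 0 := by
  refine F.nondeg u fun x => ?_
  obtain ⟨a, ha, b, hb, rfl⟩ := Submodule.mem_sup.1 (h.isCompl.sup_eq_top ▸ Submodule.mem_top : x ∈ comS (y : V ≃ₗ[K] V) ⊔ fixS (y : V ≃ₗ[K] V))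
  rw [F.B_add_right, F.B_eq_zero (h0 a ha), B_com_fix F hu hb, add_zero]

/-- glueing isometries of the two parts -/
theorem Big.glue (a b : V →ₗ[K] V) (ha : ∀ u ∈ comS (y : V ≃ₗ[K] V), a u ∈ comS (y : V ≃ₗ[K] V))
    (hb : ∀ w ∈ fixS (y : V ≃ₗ[K] V), b w ∈ fixS (y : V ≃ₗ[K] V))
    (haB : ∀ u ∈ comS (y : V ≃ₗ[K] V), ∀ v ∈ comS (y : V ≃ₗ[K] V), F.B (a u) (a v) = F.B u v)
    (haQ : ∀ u ∈ comS (y : V ≃ₗ[K] V), F.Q (a u) = F.Q u)
    (hbB : ∀ u ∈ fixS (y : V ≃ₗ[K] V), ∀ v ∈ fixS (y : V ≃ₗ[K] V), F.B (b u) (b v) = F.B u v)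
    (hbQ : ∀ u ∈ fixS (y : V ≃ₗ[K] V), F.Q (b u) = F.Q u) :
    ∃ t : F.iso, (∀ u ∈ comS (y : V ≃ₗ[K] V), (t : V ≃ₗ[K] V) u = a u) ∧
      ∀ w ∈ fixS (y : V ≃ₗ[K] V), (t : V ≃ₗ[K] V) w = b w := by
  have hcompl := h.isCompl
  generalize hU : comS (y : V ≃ₗ[K] V) = U at *
  generalize hW : fixS (y : V ≃ₗ[K] V) = W at *
  let pU : V →ₗ[K] V := U.subtype ∘ₗ U.projectionOnto W hcompl
  let f : V →ₗ[K] V := a ∘ₗ pU + b ∘ₗ (1 - pU)
  have hpU : ∀ u ∈ U, pU u = u := fun u hu => by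
    show ((U.projectionOnto W hcompl) u : V) = u
    have := Submodule.projectionOnto_apply_left hcompl ⟨u, hu⟩
    exact congrArg Subtype.val this
  have hpW : ∀ w ∈ W, pU w = 0 := fun w hw => by
    show ((U.projectionOnto W hcompl) w : V) = 0
    have := Submodule.projectionOnto_apply_right hcompl ⟨w, hw⟩
    exact congrArg Subtype.val this
  have hfU : ∀ u ∈ U, f u = a u := fun u hu => by
    show a (pU u) + b (u - pU u) = a u
    rw [hpU u hu, sub_self, map_zero, add_zero]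
  have hfW : ∀ w ∈ W, f w = b w := fun w hw => by
    show a (pU w) + b (w - pU w) = b w
    rw [hpW w hw, sub_zero, map_zero, zero_add]
  have hdec : ∀ x : V, ∃ u ∈ U, ∃ w ∈ W, u + w = x := fun x =>
    Submodule.mem_sup.1 (hcompl.sup_eq_top ▸ Submodule.mem_top : x ∈ U ⊔ W)
  have hUW : ∀ {u w : V}, u ∈ U → w ∈ W → F.B u w = 0 := fun hu hw => by subst hU hW; exact B_com_fix F hu hw
  have hWU : ∀ {u w : V}, u ∈ U → w ∈ W → F.B w u = 0 := fun hu hw => by subst hU hW; exact B_fix_com F hu hw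
  have hQUW : ∀ {u w : V}, u ∈ U → w ∈ W → F.Q (u + w) = F.Q u + F.Q w := fun hu hw => by
    subst hU hW; exact Q_com_fix F hu hw
  obtain ⟨t, ht⟩ := F.exists_iso f (by
      intro x x'
      obtain ⟨u, hu, w, hw, rfl⟩ := hdec x
      obtain ⟨u', hu', w', hw', rfl⟩ := hdec x'
      rw [map_add, map_add, hfU u hu, hfU u' hu', hfW w hw, hfW w' hw', F.B_add_left, F.B_add_left,
        F.B_add_right, F.B_add_right, F.B_add_right, F.B_add_right, haB u hu u' hu', hbB w hw w' hw',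
        hUW (ha u hu) (hb w' hw'), hWU (ha u' hu') (hb w hw), hUW hu hw', hWU hu' hw]) (by
      intro x
      obtain ⟨u, hu, w, hw, rfl⟩ := hdec x
      rw [map_add, hfU u hu, hfW w hw, hQUW (ha u hu) (hb w hw), hQUW hu hw, haQ u hu, hbQ w hw])
  exact ⟨t, fun u hu => by rw [ht, hfU u hu], fun w hw => by rw [ht, hfW w hw]⟩

/-- an isometry stabilizing the fixed space stabilizes the commutator space -/
theorem Big.stable_com {g : F.iso} (hg : ∀ w ∈ fixS (y : V ≃ₗ[K] V), (g : V ≃ₗ[K] V) w ∈ fixS (y : V ≃ₗ[K] V)) (u : V)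
    (hu : u ∈ comS (y : V ≃ₗ[K] V)) : (g : V ≃ₗ[K] V) u ∈ comS (y : V ≃ₗ[K] V) := by
  -- `g` maps `W` onto `W`
  have hsurj : ∀ w ∈ fixS (y : V ≃ₗ[K] V), ∃ w' ∈ fixS (y : V ≃ₗ[K] V), (g : V ≃ₗ[K] V) w' = w := by
    intro w hw
    have h1 : (fixS (y : V ≃ₗ[K] V)).map ((g : V ≃ₗ[K] V) : V →ₗ[K] V) = fixS (y : V ≃ₗ[K] V) := by
      apply Submodule.eq_of_le_of_finrank_eq
      · rintro _ ⟨x, hx, rfl⟩
        exact hg x hx
      · exact LinearEquiv.finrank_map_eq (g : V ≃ₗ[K] V) _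
    rw [← h1] at hw
    obtain ⟨x, hx, hxw⟩ := hw
    exact ⟨x, hx, hxw⟩
  obtain ⟨a, ha, b, hb, hab⟩ := Submodule.mem_sup.1 (h.isCompl.sup_eq_top ▸ Submodule.mem_top :
    (g : V ≃ₗ[K] V) u ∈ comS (y : V ≃ₗ[K] V) ⊔ fixS (y : V ≃ₗ[K] V))
  have hb0 : b = 0 := by
    refine F.nondeg b fun x => ?_
    obtain ⟨c, hc, d, hd, rfl⟩ := Submodule.mem_sup.1 (h.isCompl.sup_eq_top ▸ Submodule.mem_top :
      x ∈ comS (y : V ≃ₗ[K] V) ⊔ fixS (y : V ≃ₗ[K] V))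
    obtain ⟨d', hd', rfl⟩ := hsurj d hd
    have h1 : F.B b ((g : V ≃ₗ[K] V) d') = 0 := by
      have h2 : b = (g : V ≃ₗ[K] V) u - a := by rw [← hab]; abel
      rw [h2, F.B_sub_left, F.iso_B, B_com_fix F hu hd', B_com_fix F ha hd, sub_zero]
    rw [F.B_add_right, h1, B_fix_com F hc hb, add_zero]
  rw [← hab, hb0, add_zero]
  exact ha

end Cfsg.Agent.H477.OZ
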