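import Mathlib

/-!
# Elements of prime order with an irreducible commutator space of more than half the dimension (S4842, helper477)

`y : V ≃ₗ[K] V` of prime order `r`, `D` the order of `|K|` modulo `r`, `dim V < 2 D` (`Big y r`): `V = [V,y] ⊕ C_V(y)`,
`dim [V,y] = D`, `[V,y]` is an irreducible `y`-module, everything commuting with `y` acts on `[V,y]` as a polynomial in `y`.
-/

set_option autoImplicit false
set_option linter.unusedSectionVars false

namespace Cfsg.Agent.H477.OZ

open Module Polynomial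

universe u v

variable {K : Type u} [Field K] {V : Type v} [AddCommGroup V] [Module K V]

/-- the fixed space -/
def fixS (g : V ≃ₗ[K] V) : Submodule K V := LinearMap.ker ((g : V →ₗ[K] V) - 1)

/-- the commutator space -/
def comS (g : V ≃ₗ[K] V) : Submodule K V := LinearMap.range ((g : V →ₗ[K] V) - 1)

theorem mem_fixS {g : V ≃ₗ[K] V} {v : V} : v ∈ fixS g ↔ g v = v := by
  rw [fixS, LinearMap.mem_ker, LinearMap.sub_apply, sub_eq_zero]
  rfl

theorem mem_comS {g : V ≃ₗ[K] V} {v : V} : v ∈ comS g ↔ ∃ u, g u - u = v := Iff.rfl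

theorem pow_apply_succ (g : V ≃ₗ[K] V) (j : ℕ) (v : V) : (g ^ (j + 1)) v = g ((g ^ j) v) := by
  rw [pow_succ']
  rfl

/-- an element of prime order `r` whose commutator space is irreducible of dimension more than half of `dim V` -/
structure Big (y : V ≃ₗ[K] V) (r : ℕ) : Prop where
  prime : r.Prime
  ord : orderOf y = r
  ndvd : ¬ r ∣ Nat.card K
  dim : finrank K V < 2 * orderOf (Nat.card K : ZMod r)

variable [Finite K] [FiniteDimensional K V]

theorem cast_ne_zero {r : ℕ} (hr : r.Prime) (h : ¬ r ∣ Nat.card K) : (r : K) ≠ 0 := by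
  intro h0
  obtain ⟨p, hp⟩ := CharP.exists K
  have hpp : p.Prime := CharP.char_is_prime K p
  have h1 : p ∣ r := (CharP.cast_eq_zero_iff K p r).1 h0
  have h2 : p = r := (Nat.prime_dvd_prime_iff_eq hpp hr).1 h1
  apply h
  have := Fintype.ofFinite K
  obtain ⟨n, hn⟩ := FiniteField.card K p
  rw [Nat.card_eq_fintype_card, hn.2, ← h2]
  exact dvd_pow_self p n.2.ne'

/-- the dimension of a stable subspace without fixed vectors -/
theorem ord_dvd_finrank {y : V ≃ₗ[K] V} {r : ℕ} (hr : r.Prime) (S : Submodule K V)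
    (hy : ∀ s ∈ S, (y ^ r) s = s) (hS : ∀ s ∈ S, y s ∈ S) (hfix : ∀ s ∈ S, y s = s → s = 0) :
    orderOf (Nat.card K : ZMod r) ∣ finrank K S := by
  classical
  have := Fact.mk hr
  have : Finite V := Module.finite_of_finite K
  have := Fintype.ofFinite S
  let f : Function.End S := fun s => ⟨y s, hS s s.2⟩
  have hf : ∀ (n : ℕ) (s : S), ((f ^ n) s : V) = (y ^ n) s := by
    intro n
    induction n with
    | zero => intro s; rfl
    | succ n ih =>
      intro s
      rw [pow_succ', pow_apply_succ, ← ih s]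
      rfl
  have h1 : f ^ r ^ 1 = 1 := by
    rw [pow_one]
    funext s
    apply Subtype.ext
    rw [hf, hy _ s.2]
    rfl
  have h2 := Equiv.Perm.card_fixedPoints_modEq (α := S) h1
  have h3 : Fintype.card (Function.fixedPoints f) = 1 := by
    rw [Fintype.card_eq_one_iff]
    refine ⟨⟨0, ?_⟩, fun s => ?_⟩
    · apply Subtype.ext
      show y ((0 : S) : V) = ((0 : S) : V)
      simp
    · have h4 : y ((s : S) : V) = ((s : S) : V) := congrArg Subtype.val s.2
      exact Subtype.ext (Subtype.ext (hfix _ (s : S).2 h4))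
  rw [h3, ← Nat.card_eq_fintype_card, Module.natCard_eq_pow_finrank (K := K)] at h2
  rw [orderOf_dvd_iff_pow_eq_one]
  have h4 := (ZMod.natCast_eq_natCast_iff _ _ _).2 h2
  push_cast at h4
  exact h4

section

variable {y : V ≃ₗ[K] V} {r : ℕ} (h : Big y r)

include h

theorem Big.pow_eq : y ^ r = 1 := by rw [← h.ord, pow_orderOf_eq_one]

theorem Big.r_ne : (r : K) ≠ 0 := cast_ne_zero h.prime h.ndvd

theorem Big.D_pos : 0 < orderOf (Nat.card K : ZMod r) := by
  have := h.dim
  omega

theorem Big.inf_eq : fixS y ⊓ comS y = ⊥ := by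
  rw [Submodule.eq_bot_iff]
  rintro v ⟨hv1, hv2⟩
  rw [SetLike.mem_coe, mem_fixS] at hv1
  obtain ⟨u, hu⟩ := mem_comS.1 hv2
  have h1 : ∀ j : ℕ, (y ^ j) u = u + (j : K) • v := by
    intro j
    induction j with
    | zero => simp
    | succ j ih =>
      rw [pow_apply_succ, ih, map_add, map_smul, hv1]
      have : y u = u + v := by rw [← hu]; abel
      rw [this]
      push_cast
      rw [add_smul, one_smul]
      abel
  have h2 := h1 r
  rw [h.pow_eq] at h2
  have h3 : (r : K) • v = 0 := by
    have : u = u + (r : K) • v := h2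
    exact (add_eq_left.1 this.symm)
  exact (smul_eq_zero.1 h3).resolve_left h.r_ne

theorem Big.isCompl : IsCompl (comS y) (fixS y) := by
  rw [isCompl_comm]
  have h1 := h.inf_eq
  refine ⟨disjoint_iff.2 h1, codisjoint_iff.2 ?_⟩
  apply Submodule.eq_top_of_finrank_eq
  have h2 := Submodule.finrank_sup_add_finrank_inf_eq (fixS y) (comS y)
  rw [h1, finrank_bot, add_zero] at h2
  have h3 : finrank K (comS y) + finrank K (fixS y) = finrank K V :=
    LinearMap.finrank_range_add_finrank_ker ((y : V →ₗ[K] V) - 1)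
  rw [h2, add_comm, h3]

theorem Big.comS_stable (u : V) (hu : u ∈ comS y) : y u ∈ comS y := by
  obtain ⟨w, rfl⟩ := mem_comS.1 hu
  exact ⟨y w, by simp⟩

theorem Big.comS_fix (u : V) (hu : u ∈ comS y) (hf : y u = u) : u = 0 := by
  have : u ∈ fixS y ⊓ comS y := ⟨mem_fixS.2 hf, hu⟩
  rwa [h.inf_eq, Submodule.mem_bot] at this

theorem Big.comS_ne : comS y ≠ ⊥ := by
  intro h0
  have h1 : y = 1 := by
    ext v
    have h2 : y v - v ∈ comS y := ⟨v, rfl⟩
    rw [h0, Submodule.mem_bot, sub_eq_zero] at h2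
    exact h2
  have h2 := h.ord
  rw [h1, orderOf_one] at h2
  exact h.prime.one_lt.ne h2

theorem Big.finrank_comS : finrank K (comS y) = orderOf (Nat.card K : ZMod r) := by
  obtain ⟨k, hk⟩ := ord_dvd_finrank h.prime (comS y) (fun s _ => by rw [h.pow_eq]; rfl) h.comS_stable
    h.comS_fix
  have h1 : finrank K (comS y) ≤ finrank K V := Submodule.finrank_le _
  have h2 := h.dim
  have h3 : finrank K (comS y) ≠ 0 := fun h0 => h.comS_ne (Submodule.finrank_eq_zero.1 h0)
  rcases Nat.lt_or_ge k 2 with h4 | h4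
  · interval_cases k
    · exact absurd (by rw [hk, mul_zero]) h3
    · rw [hk, mul_one]
  · have := Nat.mul_le_mul_left (orderOf (Nat.card K : ZMod r)) h4
    omega

theorem Big.irr (S : Submodule K V) (hS : S ≤ comS y) (hst : ∀ s ∈ S, y s ∈ S) (hne : S ≠ ⊥) : S = comS y := by
  obtain ⟨k, hk⟩ := ord_dvd_finrank h.prime S (fun s _ => by rw [h.pow_eq]; rfl) hst
    fun s hs => h.comS_fix s (hS hs)
  have h1 : finrank K S ≠ 0 := fun h0 => hne (Submodule.finrank_eq_zero.1 h0)
  have h2 : 1 ≤ k := by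
    rcases Nat.eq_zero_or_pos k with rfl | h2
    · exact absurd (by rw [hk, mul_zero]) h1
    · exact h2
  apply Submodule.eq_of_le_of_finrank_le hS
  rw [h.finrank_comS, hk]
  exact Nat.le_mul_of_pos_right _ h2

/-- the fixed space is small -/
theorem Big.finrank_fixS : finrank K (fixS y) < orderOf (Nat.card K : ZMod r) := by
  have h1 := Submodule.finrank_add_eq_of_isCompl h.isCompl
  rw [h.finrank_comS] at h1
  have := h.dim
  omega

/-- elements commuting with `y` stabilize the commutator space -/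
theorem Big.comm_comS {g : V →ₗ[K] V} (hg : ∀ v, g (y v) = y (g v)) (u : V) (hu : u ∈ comS y) : g u ∈ comS y := by
  obtain ⟨w, rfl⟩ := mem_comS.1 hu
  refine ⟨g w, ?_⟩
  show y (g w) - g w = g (y w - w)
  rw [map_sub, hg]

omit h [Finite K] [FiniteDimensional K V] in
theorem comm_fixS {g : V →ₗ[K] V} (hg : ∀ v, g (y v) = y (g v)) (u : V) (hu : u ∈ fixS y) : g u ∈ fixS y := by
  rw [mem_fixS] at hu ⊢
  rw [← hg, hu]

omit h [Finite K] [FiniteDimensional K V] in
theorem aeval_comm (p : K[X]) (v : V) : aeval (y : V →ₗ[K] V) p (y v) = y (aeval (y : V →ₗ[K] V) p v) := by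
  have h1 : Commute (aeval (y : V →ₗ[K] V) p) (y : V →ₗ[K] V) := by
    have := Polynomial.aeval_X (R := K) (y : V →ₗ[K] V)
    conv => arg 2; rw [← this]
    exact (Commute.all p X).map (aeval (y : V →ₗ[K] V))
  exact LinearMap.congr_fun h1.eq v

/-- a nonzero vector of the commutator space generates it -/
theorem Big.exists_aeval {u₀ : V} (hu₀ : u₀ ∈ comS y) (h0 : u₀ ≠ 0) (u : V) (hu : u ∈ comS y) :
    ∃ p : K[X], aeval (y : V →ₗ[K] V) p u₀ = u := by
  let L : K[X] →ₗ[K] V :=
    { toFun := fun p => aeval (y : V →ₗ[K] V) p u₀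
      map_add' := fun p p' => by rw [map_add]; rfl
      map_smul' := fun c p => by rw [map_smul]; rfl }
  have h1 : LinearMap.range L = comS y := by
    apply h.irr
    · rintro _ ⟨p, rfl⟩
      exact h.comm_comS (fun v => aeval_comm p v) u₀ hu₀
    · rintro _ ⟨p, rfl⟩
      refine ⟨X * p, ?_⟩
      show aeval (y : V →ₗ[K] V) (X * p) u₀ = y (aeval (y : V →ₗ[K] V) p u₀)
      rw [map_mul, aeval_X]
      rfl
    · intro hb
      apply h0
      have : L 1 ∈ LinearMap.range L := ⟨1, rfl⟩
      rw [hb, Submodule.mem_bot] at this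
      have h2 : L 1 = u₀ := by
        show aeval (y : V →ₗ[K] V) 1 u₀ = u₀
        rw [map_one]
        rfl
      rwa [h2] at this
  rw [← h1] at hu
  obtain ⟨p, hp⟩ := hu
  exact ⟨p, hp⟩

/-- everything commuting with `y` is a polynomial in `y` on the commutator space -/
theorem Big.exists_poly {g : V →ₗ[K] V} (hg : ∀ v, g (y v) = y (g v)) :
    ∃ p : K[X], ∀ u ∈ comS y, g u = aeval (y : V →ₗ[K] V) p u := by
  obtain ⟨u₀, hu₀, h0⟩ := Submodule.exists_mem_ne_zero_of_ne_bot h.comS_ne
  obtain ⟨p, hp⟩ := h.exists_aeval hu₀ h0 (g u₀) (h.comm_comS hg u₀ hu₀)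
  refine ⟨p, fun u hu => ?_⟩
  obtain ⟨s, rfl⟩ := h.exists_aeval hu₀ h0 u hu
  have h1 : ∀ (s : K[X]) (v : V), g (aeval (y : V →ₗ[K] V) s v) = aeval (y : V →ₗ[K] V) s (g v) := by
    intro s v
    have h2 : Commute g (y : V →ₗ[K] V) := LinearMap.ext fun v => hg v
    have h3 : Commute g (aeval (y : V →ₗ[K] V) s) := by
      induction s using Polynomial.induction_on' with
      | add p q hp hq => rw [map_add]; exact hp.add_right hq
      | monomial n a =>
        rw [aeval_monomial]
        exact Commute.mul_right (Algebra.commutes' a g).symm (h2.pow_right n)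
    exact LinearMap.congr_fun h3.eq v
  rw [h1, ← hp]
  have h4 : Commute (aeval (y : V →ₗ[K] V) s) (aeval (y : V →ₗ[K] V) p) :=
    (Commute.all s p).map (aeval (y : V →ₗ[K] V))
  exact LinearMap.congr_fun h4.eq u₀

/-- two elements commuting with `y` commute on the commutator space -/
theorem Big.comm_of_comm {g k : V →ₗ[K] V} (hg : ∀ v, g (y v) = y (g v)) (hk : ∀ v, k (y v) = y (k v)) (u : V)
    (hu : u ∈ comS y) : g (k u) = k (g u) := by
  obtain ⟨p, hp⟩ := h.exists_poly hg
  obtain ⟨s, hs⟩ := h.exists_poly hk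
  rw [hs u hu, hp _ (h.comm_comS (fun v => aeval_comm s v) u hu), hp u hu,
    hs _ (h.comm_comS (fun v => aeval_comm p v) u hu)]
  exact LinearMap.congr_fun ((Commute.all p s).map (aeval (y : V →ₗ[K] V))).eq u

/-- a linear map commuting with `y` is zero or injective on the commutator space -/
theorem Big.zero_or_inj {g : V →ₗ[K] V} (hg : ∀ v, g (y v) = y (g v)) :
    (∀ u ∈ comS y, g u = 0) ∨ ∀ u ∈ comS y, g u = 0 → u = 0 := by
  by_cases hb : LinearMap.ker g ⊓ comS y = ⊥
  · right
    intro u hu hgu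
    have : u ∈ LinearMap.ker g ⊓ comS y := ⟨hgu, hu⟩
    rwa [hb, Submodule.mem_bot] at this
  · left
    have h1 := h.irr (LinearMap.ker g ⊓ comS y) inf_le_right (by
      rintro s ⟨hs1, hs2⟩
      refine ⟨?_, h.comS_stable s hs2⟩
      rw [SetLike.mem_coe, LinearMap.mem_ker] at hs1 ⊢
      rw [hg, hs1, map_zero]) hb
    intro u hu
    rw [← h1] at hu
    exact hu.1

/-- `p`-elements commuting with `y` are trivial on the commutator space -/
theorem Big.trivial_of_char {p : ℕ} [CharP K p] [Fact p.Prime] {g : V ≃ₗ[K] V} (hg : Commute g y) {j : ℕ}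
    (hj : g ^ p ^ j = 1) (u : V) (hu : u ∈ comS y) : g u = u := by
  have hgv : ∀ v, g (y v) = y (g v) := fun v => LinearEquiv.congr_fun hg.eq v
  have hc : ∀ v, ((g : V →ₗ[K] V) - 1) (y v) = y (((g : V →ₗ[K] V) - 1) v) := by
    intro v
    rw [LinearMap.sub_apply, LinearMap.sub_apply, map_sub]
    congr 1
    exact hgv v
  rcases h.zero_or_inj hc with h1 | h1
  · exact sub_eq_zero.1 (h1 u hu)
  · exfalso
    obtain ⟨u₀, hu₀, h0⟩ := Submodule.exists_mem_ne_zero_of_ne_bot h.comS_ne
    have h2 : ((g : V →ₗ[K] V) - 1) ^ p ^ j = 0 := by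
      have hp2 : CharP (V →ₗ[K] V) p := by
        have : Nontrivial V := ⟨u₀, 0, h0⟩
        exact charP_of_injective_algebraMap (algebraMap K (Module.End K V)).injective p
      have h3 : Commute (g : V →ₗ[K] V) 1 := Commute.one_right _
      have h4 := sub_pow_char_pow_of_commute (R := Module.End K V) (p := p) (n := j) h3
      rw [one_pow] at h4
      have h5 : ((g : V →ₗ[K] V)) ^ p ^ j = 1 := by
        have : ∀ n : ℕ, ((g : V →ₗ[K] V)) ^ n = ((g ^ n : V ≃ₗ[K] V) : V →ₗ[K] V) := by
          intro n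
          induction n with
          | zero => rfl
          | succ n ih =>
            rw [pow_succ, pow_succ, ih]
            rfl
        rw [this, hj]
        rfl
      rw [h5, sub_self] at h4
      exact h4
    have h3 : ∀ n : ℕ, ∀ v ∈ comS y, (((g : V →ₗ[K] V) - 1) ^ n) v = 0 → v = 0 := by
      intro n
      induction n with
      | zero => intro v _ hv; exact hv
      | succ n ih =>
        intro v hv hv0
        rw [pow_succ'] at hv0
        have h4 : (((g : V →ₗ[K] V) - 1) ^ n) v = 0 := by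
          refine h1 _ ?_ hv0
          have hcn : ∀ n : ℕ, ∀ v ∈ comS y, (((g : V →ₗ[K] V) - 1) ^ n) v ∈ comS y := by
            intro n
            induction n with
            | zero => intro v hv; exact hv
            | succ n ih =>
              intro v hv
              rw [pow_succ']
              exact h.comm_comS hc _ (ih v hv)
          exact hcn n v hv
        exact ih v hv h4
    exact h0 (h3 (p ^ j) u₀ hu₀ (by rw [h2]; rfl))

/-- elements of `r`-power order stabilizing the fixed space are trivial on it -/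
theorem Big.trivial_fixS {g : V ≃ₗ[K] V} (hst : ∀ v ∈ fixS y, g v ∈ fixS y) {j : ℕ} (hj : g ^ r ^ j = 1) (w : V)
    (hw : w ∈ fixS y) : g w = w := by
  classical
  by_contra hne
  -- a power acting with order `r`
  have hst' : ∀ (n : ℕ), ∀ v ∈ fixS y, (g ^ n) v ∈ fixS y := by
    intro n
    induction n with
    | zero => intro v hv; exact hv
    | succ n ih => intro v hv; rw [pow_apply_succ]; exact hst _ (ih v hv)
  have hex : ∃ i : ℕ, ∀ v ∈ fixS y, (g ^ r ^ i) v = v := ⟨j, fun v _ => by rw [hj]; rfl⟩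
  obtain ⟨i', hi1, hlt⟩ : ∃ i' : ℕ, (∀ v ∈ fixS y, (g ^ r ^ (i' + 1)) v = v) ∧ ¬ ∀ v ∈ fixS y, (g ^ r ^ i') v = v := by
    have hi1 := Nat.find_spec hex
    have hi0 : Nat.find hex ≠ 0 := by
      intro h0
      rw [h0, pow_zero, pow_one] at hi1
      exact hne (hi1 w hw)
    refine ⟨Nat.find hex - 1, ?_, Nat.find_min hex (by omega)⟩
    rw [Nat.sub_add_cancel (Nat.one_le_iff_ne_zero.2 hi0)]
    exact hi1
  push Not at hlt
  obtain ⟨v, hv, hvne⟩ := hlt
  -- the commutator space of `k = g ^ r ^ i'` on the fixed space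
  set k := g ^ r ^ i' with hk
  have hkr : ∀ v ∈ fixS y, (k ^ r) v = v := by
    intro v hv
    rw [hk, ← pow_mul, ← pow_succ]
    exact hi1 v hv
  let S : Submodule K V := (fixS y).map ((k : V →ₗ[K] V) - 1)
  have hSle : S ≤ fixS y := by
    rintro _ ⟨x, hx, rfl⟩
    exact (fixS y).sub_mem (hst' _ x hx) hx
  have hSne : S ≠ ⊥ := by
    intro hb
    have h1 : ((k : V →ₗ[K] V) - 1) v ∈ S := ⟨v, hv, rfl⟩
    rw [hb, Submodule.mem_bot] at h1
    exact hvne (sub_eq_zero.1 h1)
  -- restrict to `S`: no fixed vectors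
  have hSst : ∀ s ∈ S, k s ∈ S := by
    rintro _ ⟨x, hx, rfl⟩
    refine ⟨k x, hst' _ x hx, ?_⟩
    rw [LinearMap.sub_apply, LinearMap.sub_apply, map_sub]
    rfl
  have hSfix : ∀ s ∈ S, k s = s → s = 0 := by
    rintro _ ⟨x, hx, rfl⟩ hs
    set s := ((k : V →ₗ[K] V) - 1) x with hsdef
    have h1 : ∀ n : ℕ, (k ^ n) x = x + (n : K) • s := by
      intro n
      induction n with
      | zero => simp
      | succ n ih =>
        rw [pow_apply_succ, ih, map_add, map_smul, hs]
        have : k x = x + s := by rw [hsdef, LinearMap.sub_apply]; show k x = x + (k x - x); abel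
        rw [this]
        push_cast
        rw [add_smul, one_smul]
        abel
    have h2 := h1 r
    rw [hkr x hx] at h2
    have h3 : (r : K) • s = 0 := add_eq_left.1 h2.symm
    exact (smul_eq_zero.1 h3).resolve_left h.r_ne
  -- the dimension
  have h1 : orderOf (Nat.card K : ZMod r) ∣ finrank K S :=
    ord_dvd_finrank h.prime S (fun s hs => hkr s (hSle hs)) hSst hSfix
  have h2 : finrank K S ≠ 0 := fun h0 => hSne (Submodule.finrank_eq_zero.1 h0)
  have h3 := Nat.le_of_dvd (Nat.pos_of_ne_zero h2) h1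
  have h4 := Submodule.finrank_mono hSle
  have h5 := h.finrank_fixS
  omega

end

end Cfsg.Agent.H477.OZ
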