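import Cfsg.Agent.H477.OZ.Geo2

/-!
# Elements of prime order in isometry groups, no restriction on the dimension (S4842, helper477)

`Med y r`: `y` of prime order `r`, `r` not dividing `|K|`.
* `Med.isCompl`, `Med.nondeg_com`, `Med.glue`, `Med.inner` : as for `Big`;
* `roots_le` : the number of powers of `y` which are roots of a polynomial on an irreducible subspace;
* `exists_cp` : the characteristic polynomial.
-/

set_option autoImplicit false
set_option linter.unusedSectionVars false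

namespace Cfsg.Agent.H477.OZ

open Module Polynomial Cfsg.Agent.H477.HC

universe u v

variable {K : Type u} [Field K] {V : Type v} [AddCommGroup V] [Module K V]

/-- the polynomials `p` with `p(y) = 0` on `W` -/
noncomputable def annW (y : V ≃ₗ[K] V) (W : Submodule K V) : Ideal K[X] where
  carrier := {p | ∀ u ∈ W, aeval (y : V →ₗ[K] V) p u = 0}
  zero_mem' := fun u _ => by simp
  add_mem' := by
    intro a b ha hb u hu
    rw [map_add, LinearMap.add_apply, ha u hu, hb u hu, add_zero]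
  smul_mem' := by
    intro c a ha u hu
    rw [smul_eq_mul, map_mul]
    show aeval (y : V →ₗ[K] V) c (aeval (y : V →ₗ[K] V) a u) = 0
    rw [ha u hu, map_zero]

theorem mem_annW {y : V ≃ₗ[K] V} {W : Submodule K V} {p : K[X]} :
    p ∈ annW y W ↔ ∀ u ∈ W, aeval (y : V →ₗ[K] V) p u = 0 := Iff.rfl

theorem aeval_stable {f : V →ₗ[K] V} {W : Submodule K V} (hst : ∀ u ∈ W, f u ∈ W) (s : K[X]) :
    ∀ u ∈ W, aeval f s u ∈ W := by
  have hpw : ∀ n : ℕ, ∀ u ∈ W, (f ^ n) u ∈ W := by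
    intro n
    induction n with
    | zero => intro u hu; exact hu
    | succ n ih => intro u hu; rw [pow_succ']; exact hst _ (ih u hu)
  induction s using Polynomial.induction_on' with
  | add p q hp hq => intro u hu; rw [map_add]; exact W.add_mem (hp u hu) (hq u hu)
  | monomial n a =>
    intro u hu
    rw [aeval_monomial]
    exact W.smul_mem a (hpw n u hu)

/-- the characteristic polynomial on a stable subspace -/
theorem exists_cp [FiniteDimensional K V] {f : V →ₗ[K] V} {W : Submodule K V} (hst : ∀ u ∈ W, f u ∈ W) :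
    ∃ m : K[X], m ≠ 0 ∧ m.natDegree = finrank K W ∧ ∀ u ∈ W, aeval f m u = 0 := by
  let f' : W →ₗ[K] W := f.restrict hst
  have hpw : ∀ (n : ℕ) (u : W), (((f' ^ n) u : W) : V) = (f ^ n) (u : V) := by
    intro n
    induction n with
    | zero => intro u; rfl
    | succ n ih =>
      intro u
      rw [pow_succ, pow_succ]
      show (((f' ^ n) (f' u) : W) : V) = (f ^ n) (f (u : V))
      rw [ih]
      rfl
  have key : ∀ (s : K[X]) (u : W), ((aeval f' s u : W) : V) = aeval f s (u : V) := by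
    intro s
    induction s using Polynomial.induction_on' with
    | add p q hp hq =>
      intro u
      rw [map_add, map_add, LinearMap.add_apply, LinearMap.add_apply, Submodule.coe_add, hp, hq]
    | monomial n a =>
      intro u
      rw [aeval_monomial, aeval_monomial]
      show ((a • ((f' ^ n) u) : W) : V) = a • ((f ^ n) (u : V))
      rw [Submodule.coe_smul, hpw]
  refine ⟨f'.charpoly, f'.charpoly_monic.ne_zero, f'.charpoly_natDegree, fun u hu => ?_⟩
  have h1 := key f'.charpoly ⟨u, hu⟩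
  rw [LinearMap.aeval_self_charpoly] at h1
  exact h1.symm

/-- **Counting the roots** among the powers of `y`. -/
theorem roots_le {y : V ≃ₗ[K] V} {r : ℕ} (hr : r.Prime) (hyr : y ^ r = 1) {W : Submodule K V}
    (hst : ∀ u ∈ W, y u ∈ W) (hirr : ∀ S ≤ W, (∀ s ∈ S, y s ∈ S) → S ≠ ⊥ → S = W) (hne : W ≠ ⊥)
    (hfix : ∀ u ∈ W, y u = u → u = 0) {m : K[X]} (hm : m ≠ 0) (A : Finset ℕ)
    (hA : ∀ i ∈ A, ∀ j ∈ A, i ≡ j [MOD r] → i = j)
    (hroot : ∀ i ∈ A, ∀ u ∈ W, aeval (((y ^ i : V ≃ₗ[K] V)) : V →ₗ[K] V) m u = 0) : A.card ≤ m.natDegree := by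
  classical
  obtain ⟨u₀, hu₀, h0⟩ := Submodule.exists_mem_ne_zero_of_ne_bot hne
  have hP : (annW y W).IsPrime := by
    refine ⟨?_, ?_⟩
    · intro h1
      have h2 : (1 : K[X]) ∈ annW y W := h1 ▸ Submodule.mem_top
      have h3 := h2 u₀ hu₀
      rw [map_one] at h3
      exact h0 h3
    · intro a b hab
      by_cases hb : b ∈ annW y W
      · exact Or.inr hb
      · left
        rw [mem_annW] at hb
        push Not at hb
        obtain ⟨u, hu, hbu⟩ := hb
        have h1 : LinearMap.ker (aeval (y : V →ₗ[K] V) a) ⊓ W = W := by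
          refine hirr _ inf_le_right ?_ ?_
          · rintro s ⟨hs1, hs2⟩
            refine ⟨?_, hst s hs2⟩
            rw [SetLike.mem_coe, LinearMap.mem_ker] at hs1 ⊢
            rw [aeval_comm, hs1, map_zero]
          · intro hbot
            have h2 : aeval (y : V →ₗ[K] V) b u ∈ LinearMap.ker (aeval (y : V →ₗ[K] V) a) ⊓ W := by
              refine ⟨?_, aeval_stable (f := (y : V →ₗ[K] V)) hst b u hu⟩
              have h3 := hab u hu
              rw [map_mul] at h3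
              exact h3
            rw [hbot, Submodule.mem_bot] at h2
            exact hbu h2
        intro v hv
        rw [← h1] at hv
        exact hv.1
  have hdom : IsDomain (K[X] ⧸ annW y W) := Ideal.Quotient.isDomain (annW y W)
  let q : K[X] →+* K[X] ⧸ annW y W := Ideal.Quotient.mk (annW y W)
  have hq : ∀ a b : K[X], q a = q b ↔ ∀ u ∈ W, aeval (y : V →ₗ[K] V) a u = aeval (y : V →ₗ[K] V) b u := by
    intro a b
    rw [Ideal.Quotient.eq, mem_annW]
    refine forall₂_congr fun u hu => ?_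
    rw [map_sub, LinearMap.sub_apply, sub_eq_zero]
  have hyX : ∀ n : ℕ, aeval (y : V →ₗ[K] V) (X ^ n : K[X]) = ((y ^ n : V ≃ₗ[K] V) : V →ₗ[K] V) := by
    intro n
    rw [map_pow, aeval_X, lin_pow]
  have hXr : q X ^ r = 1 := by
    rw [← map_pow, ← map_one q, hq]
    intro u hu
    rw [hyX, hyr, map_one]
    rfl
  have hX1 : q X ≠ 1 := by
    intro h1
    rw [← map_one q, hq] at h1
    have h2 := h1 u₀ hu₀
    rw [aeval_X, map_one] at h2
    exact h0 (hfix u₀ hu₀ h2)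
  have hord : orderOf (q X) = r := orderOf_eq_prime hXr hX1 (hp := ⟨hr⟩)
  let φ : K →+* K[X] ⧸ annW y W := q.comp C
  have hφ : Function.Injective φ := φ.injective
  let M : (K[X] ⧸ annW y W)[X] := m.map φ
  have hM0 : M ≠ 0 := (Polynomial.map_ne_zero_iff hφ).2 hm
  have hroots : ∀ i ∈ A, q X ^ i ∈ M.roots := by
    intro i hi
    rw [mem_roots hM0, IsRoot.def, eval_map, ← map_pow]
    have h1 : eval₂ φ (q (X ^ i)) m = q (m.comp (X ^ i)) := by
      rw [Polynomial.comp, hom_eval₂]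
    rw [h1, ← map_zero q, hq]
    intro u hu
    rw [map_zero, aeval_comp, hyX, hroot i hi u hu]
    rfl
  have hX0 : IsUnit (q X) := IsUnit.of_pow_eq_one hXr hr.ne_zero
  have hcard : A.card ≤ M.roots.toFinset.card := by
    refine Finset.card_le_card_of_injOn (fun i => q X ^ i) (fun i hi => ?_) ?_
    · exact Multiset.mem_toFinset.2 (hroots i hi)
    · intro i hi j hj hij
      refine hA i hi j hj ?_
      obtain ⟨x, hx⟩ := hX0
      have h1 : x ^ i = x ^ j := by
        apply Units.ext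
        rw [Units.val_pow_eq_pow_val, Units.val_pow_eq_pow_val, hx]
        exact hij
      have h2 : orderOf x = r := by rw [← orderOf_units, hx, hord]
      rw [← h2]
      exact pow_eq_pow_iff_modEq.1 h1
  have h5 : M.roots.toFinset.card ≤ M.natDegree := (Multiset.toFinset_card_le _).trans (card_roots' M)
  have h6 : M.natDegree ≤ m.natDegree := natDegree_map_le
  omega

/-- an element of prime order not dividing `|K|` -/
structure Med (y : V ≃ₗ[K] V) (r : ℕ) : Prop where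
  prime : r.Prime
  ord : orderOf y = r
  ndvd : ¬ r ∣ Nat.card K

variable [Finite K] [FiniteDimensional K V]

section

variable {y : V ≃ₗ[K] V} {r : ℕ} (h : Med y r)

include h

theorem Med.pow_eq : y ^ r = 1 := by rw [← h.ord, pow_orderOf_eq_one]

theorem Med.r_ne : (r : K) ≠ 0 := cast_ne_zero h.prime h.ndvd

theorem Med.inf_eq : fixS y ⊓ comS y = ⊥ := by
  rw [Submodule.eq_bot_iff]
  rintro v ⟨hv1, hv2⟩
  rw [SetLike.mem_coe, mem_fixS] at hv1
  obtain ⟨u, hu⟩ := mem_comS.1 hv2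
  have h1 : ∀ j : ℕ, (y ^ j) u = u + (j : K) • v := by
    intro j
    induction j with
    | zero => simp
    | succ j ih =>
      rw [pow_apply_succ, ih, map_add, map_smul, hv1]
      have : y u = u + v := by rw [← hu]; abel
      rw [this]
      push_cast
      rw [add_smul, one_smul]
      abel
  have h2 := h1 r
  rw [h.pow_eq] at h2
  have h3 : (r : K) • v = 0 := by
    have : u = u + (r : K) • v := h2
    exact (add_eq_left.1 this.symm)
  exact (smul_eq_zero.1 h3).resolve_left h.r_ne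

theorem Med.isCompl : IsCompl (comS y) (fixS y) := by
  rw [isCompl_comm]
  have h1 := h.inf_eq
  refine ⟨disjoint_iff.2 h1, codisjoint_iff.2 ?_⟩
  apply Submodule.eq_top_of_finrank_eq
  have h2 := Submodule.finrank_sup_add_finrank_inf_eq (fixS y) (comS y)
  rw [h1, finrank_bot, add_zero] at h2
  have h3 : finrank K (comS y) + finrank K (fixS y) = finrank K V :=
    LinearMap.finrank_range_add_finrank_ker ((y : V →ₗ[K] V) - 1)
  rw [h2, add_comm, h3]

theorem Med.comS_stable (u : V) (hu : u ∈ comS y) : y u ∈ comS y := by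
  obtain ⟨w, rfl⟩ := mem_comS.1 hu
  exact ⟨y w, by simp⟩

theorem Med.comS_fix (u : V) (hu : u ∈ comS y) (hf : y u = u) : u = 0 := by
  have : u ∈ fixS y ⊓ comS y := ⟨mem_fixS.2 hf, hu⟩
  rwa [h.inf_eq, Submodule.mem_bot] at this

theorem Med.comS_ne : comS y ≠ ⊥ := by
  intro h0
  have h1 : y = 1 := by
    ext v
    have h2 : y v - v ∈ comS y := ⟨v, rfl⟩
    rw [h0, Submodule.mem_bot, sub_eq_zero] at h2
    exact h2
  have h2 := h.ord
  rw [h1, orderOf_one] at h2
  exact h.prime.one_lt.ne h2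

/-- the dimension of stable subspaces of the commutator space -/
theorem Med.dvd_finrank (S : Submodule K V) (hS : S ≤ comS y) (hst : ∀ s ∈ S, y s ∈ S) :
    orderOf (Nat.card K : ZMod r) ∣ finrank K S :=
  ord_dvd_finrank h.prime S (fun s _ => by rw [h.pow_eq]; rfl) hst fun s hs => h.comS_fix s (hS hs)

/-- stable subspaces of dimension `D` are irreducible -/
theorem Med.irr {W : Submodule K V} (hW : W ≤ comS y) (hd : finrank K W = orderOf (Nat.card K : ZMod r))
    (S : Submodule K V) (hS : S ≤ W) (hst : ∀ s ∈ S, y s ∈ S) (hne : S ≠ ⊥) : S = W := by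
  obtain ⟨k, hk⟩ := h.dvd_finrank S (hS.trans hW) hst
  have h1 : finrank K S ≠ 0 := fun h0 => hne (Submodule.finrank_eq_zero.1 h0)
  have h2 : 1 ≤ k := by
    rcases Nat.eq_zero_or_pos k with rfl | h2
    · exact absurd (by rw [hk, mul_zero]) h1
    · exact h2
  apply Submodule.eq_of_le_of_finrank_le hS
  rw [hd, hk]
  exact Nat.le_mul_of_pos_right _ h2

end

section

variable {F : CForm K V} {y : F.iso} {r : ℕ} (h : Med (y : V ≃ₗ[K] V) r)

include h

theorem Med.decomp (x : V) : ∃ a ∈ comS (y : V ≃ₗ[K] V), ∃ b ∈ fixS (y : V ≃ₗ[K] V), a + b = x :=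
  Submodule.mem_sup.1 (h.isCompl.sup_eq_top ▸ Submodule.mem_top : x ∈ comS (y : V ≃ₗ[K] V) ⊔ fixS (y : V ≃ₗ[K] V))

theorem Med.ext {a b : F.iso} (h1 : ∀ u ∈ comS (y : V ≃ₗ[K] V), (a : V ≃ₗ[K] V) u = (b : V ≃ₗ[K] V) u)
    (h2 : ∀ u ∈ fixS (y : V ≃ₗ[K] V), (a : V ≃ₗ[K] V) u = (b : V ≃ₗ[K] V) u) : a = b := by
  refine Subtype.ext (LinearEquiv.ext fun v => ?_)
  obtain ⟨x, hx, w, hw, rfl⟩ := h.decomp v
  rw [map_add, map_add, h1 x hx, h2 w hw]

theorem Med.nondeg_com (u : V) (hu : u ∈ comS (y : V ≃ₗ[K] V)) (h0 : ∀ v ∈ comS (y : V ≃ₗ[K] V), F.B v u = 0) :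
    u = 0 := by
  refine F.nondeg u fun x => ?_
  obtain ⟨a, ha, b, hb, rfl⟩ := h.decomp x
  rw [F.B_add_right, F.B_eq_zero (h0 a ha), B_com_fix F hu hb, add_zero]

/-- glueing isometries of the two parts -/
theorem Med.glue (a b : V →ₗ[K] V) (ha : ∀ u ∈ comS (y : V ≃ₗ[K] V), a u ∈ comS (y : V ≃ₗ[K] V))
    (hb : ∀ w ∈ fixS (y : V ≃ₗ[K] V), b w ∈ fixS (y : V ≃ₗ[K] V))
    (haB : ∀ u ∈ comS (y : V ≃ₗ[K] V), ∀ v ∈ comS (y : V ≃ₗ[K] V), F.B (a u) (a v) = F.B u v)
    (haQ : ∀ u ∈ comS (y : V ≃ₗ[K] V), F.Q (a u) = F.Q u)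
    (hbB : ∀ u ∈ fixS (y : V ≃ₗ[K] V), ∀ v ∈ fixS (y : V ≃ₗ[K] V), F.B (b u) (b v) = F.B u v)
    (hbQ : ∀ u ∈ fixS (y : V ≃ₗ[K] V), F.Q (b u) = F.Q u) :
    ∃ t : F.iso, (∀ u ∈ comS (y : V ≃ₗ[K] V), (t : V ≃ₗ[K] V) u = a u) ∧
      ∀ w ∈ fixS (y : V ≃ₗ[K] V), (t : V ≃ₗ[K] V) w = b w := by
  have hcompl := h.isCompl
  generalize hU : comS (y : V ≃ₗ[K] V) = U at *
  generalize hW : fixS (y : V ≃ₗ[K] V) = W at *
  let pU : V →ₗ[K] V := U.subtype ∘ₗ U.projectionOnto W hcompl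
  let f : V →ₗ[K] V := a ∘ₗ pU + b ∘ₗ (1 - pU)
  have hpU : ∀ u ∈ U, pU u = u := fun u hu => by
    show ((U.projectionOnto W hcompl) u : V) = u
    have := Submodule.projectionOnto_apply_left hcompl ⟨u, hu⟩
    exact congrArg Subtype.val this
  have hpW : ∀ w ∈ W, pU w = 0 := fun w hw => by
    show ((U.projectionOnto W hcompl) w : V) = 0
    have := Submodule.projectionOnto_apply_right hcompl ⟨w, hw⟩
    exact congrArg Subtype.val this
  have hfU : ∀ u ∈ U, f u = a u := fun u hu => by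
    show a (pU u) + b (u - pU u) = a u
    rw [hpU u hu, sub_self, map_zero, add_zero]
  have hfW : ∀ w ∈ W, f w = b w := fun w hw => by
    show a (pU w) + b (w - pU w) = b w
    rw [hpW w hw, sub_zero, map_zero, zero_add]
  have hdec : ∀ x : V, ∃ u ∈ U, ∃ w ∈ W, u + w = x := fun x =>
    Submodule.mem_sup.1 (hcompl.sup_eq_top ▸ Submodule.mem_top : x ∈ U ⊔ W)
  have hUW : ∀ {u w : V}, u ∈ U → w ∈ W → F.B u w = 0 := fun hu hw => by subst hU hW; exact B_com_fix F hu hw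
  have hWU : ∀ {u w : V}, u ∈ U → w ∈ W → F.B w u = 0 := fun hu hw => by subst hU hW; exact B_fix_com F hu hw
  have hQUW : ∀ {u w : V}, u ∈ U → w ∈ W → F.Q (u + w) = F.Q u + F.Q w := fun hu hw => by
    subst hU hW; exact Q_com_fix F hu hw
  obtain ⟨t, ht⟩ := F.exists_iso f (by
      intro x x'
      obtain ⟨u, hu, w, hw, rfl⟩ := hdec x
      obtain ⟨u', hu', w', hw', rfl⟩ := hdec x'
      rw [map_add, map_add, hfU u hu, hfU u' hu', hfW w hw, hfW w' hw', F.B_add_left, F.B_add_left,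
        F.B_add_right, F.B_add_right, F.B_add_right, F.B_add_right, haB u hu u' hu', hbB w hw w' hw',
        hUW (ha u hu) (hb w' hw'), hWU (ha u' hu') (hb w hw), hUW hu hw', hWU hu' hw]) (by
      intro x
      obtain ⟨u, hu, w, hw, rfl⟩ := hdec x
      rw [map_add, hfU u hu, hfW w hw, hQUW (ha u hu) (hb w hw), hQUW hu hw, haQ u hu, hbQ w hw])
  exact ⟨t, fun u hu => by rw [ht, hfU u hu], fun w hw => by rw [ht, hfW w hw]⟩

/-- an isometry stabilizing the fixed space stabilizes the commutator space -/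
theorem Med.stable_com {g : F.iso} (hg : ∀ w ∈ fixS (y : V ≃ₗ[K] V), (g : V ≃ₗ[K] V) w ∈ fixS (y : V ≃ₗ[K] V)) (u : V)
    (hu : u ∈ comS (y : V ≃ₗ[K] V)) : (g : V ≃ₗ[K] V) u ∈ comS (y : V ≃ₗ[K] V) := by
  have hsurj : ∀ w ∈ fixS (y : V ≃ₗ[K] V), ∃ w' ∈ fixS (y : V ≃ₗ[K] V), (g : V ≃ₗ[K] V) w' = w := by
    intro w hw
    have h1 : (fixS (y : V ≃ₗ[K] V)).map ((g : V ≃ₗ[K] V) : V →ₗ[K] V) = fixS (y : V ≃ₗ[K] V) := by
      apply Submodule.eq_of_le_of_finrank_eq
      · rintro _ ⟨x, hx, rfl⟩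
        exact hg x hx
      · exact LinearEquiv.finrank_map_eq (g : V ≃ₗ[K] V) _
    rw [← h1] at hw
    obtain ⟨x, hx, hxw⟩ := hw
    exact ⟨x, hx, hxw⟩
  obtain ⟨a, ha, b, hb, hab⟩ := h.decomp ((g : V ≃ₗ[K] V) u)
  have hb0 : b = 0 := by
    refine F.nondeg b fun x => ?_
    obtain ⟨c, hc, d, hd, rfl⟩ := h.decomp x
    obtain ⟨d', hd', rfl⟩ := hsurj d hd
    have h1 : F.B b ((g : V ≃ₗ[K] V) d') = 0 := by
      have h2 : b = (g : V ≃ₗ[K] V) u - a := by rw [← hab]; abel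
      rw [h2, F.B_sub_left, F.iso_B, B_com_fix F hu hd', B_com_fix F ha hd, sub_zero]
    rw [F.B_add_right, h1, B_fix_com F hc hb, add_zero]
  rw [← hab, hb0, add_zero]
  exact ha

theorem Med.Ky_fix {k : F.iso} (hk : k ∈ Ky F y) {w : V} (hw : w ∈ fixS (y : V ≃ₗ[K] V)) :
    (k : V ≃ₗ[K] V) w ∈ fixS (y : V ≃ₗ[K] V) := by
  obtain ⟨a, ha, b, hb, hab⟩ := h.decomp ((k : V ≃ₗ[K] V) w)
  have h1 : a = 0 := by
    refine h.nondeg_com a ha fun u hu => ?_
    have h2 : F.B u ((k : V ≃ₗ[K] V) w) = 0 := by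
      rw [← hk u hu, F.iso_B]
      exact B_com_fix F hu hw
    rw [← hab, F.B_add_right, B_com_fix F hu hb, add_zero] at h2
    exact h2
  rw [← hab, h1, zero_add]
  exact hb

theorem Med.Ky_comm {k : F.iso} (hk : k ∈ Ky F y) : Commute k y := by
  refine h.ext (fun u hu => ?_) fun w hw => ?_
  · rw [mul_apply, mul_apply, hk u hu, hk _ (h.comS_stable u hu)]
  · rw [mul_apply, mul_apply, mem_fixS.1 hw, mem_fixS.1 (h.Ky_fix hk hw)]

theorem Med.orderOf_eq : orderOf y = r := by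
  have := h.ord
  rwa [Subgroup.orderOf_coe] at this

/-- inner action on `Ky` -/
theorem Med.inner {n : F.iso} (hn : ∃ i : ℕ, ¬ r ∣ i ∧ n * y * n⁻¹ = y ^ i) :
    ∃ c ∈ Ky F y, ∀ k ∈ Ky F y, n * k * n⁻¹ = c * k * c⁻¹ := by
  obtain ⟨i, hi, hni⟩ := hn
  have hny : n * y = y ^ i * n := by rw [← hni, inv_mul_cancel_right]
  obtain ⟨j, hj⟩ : ∃ j : ℕ, (y ^ i) ^ j = y := by
    have h1 : (orderOf y).Coprime i := by
      rw [h.orderOf_eq]
      exact (Nat.Prime.coprime_iff_not_dvd h.prime).2 hi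
    exact exists_pow_eq_self_of_coprime h1.symm
  have hpow : ∀ (x : F.iso) (m : ℕ) (w : V), w ∈ fixS (x : V ≃ₗ[K] V) → w ∈ fixS ((x ^ m : F.iso) : V ≃ₗ[K] V) := by
    intro x m w hw
    rw [mem_fixS] at hw ⊢
    induction m with
    | zero => rfl
    | succ m ih =>
      rw [pow_succ, mul_apply, hw, ih]
  have hfix : ∀ w ∈ fixS (y : V ≃ₗ[K] V), (n : V ≃ₗ[K] V) w ∈ fixS (y : V ≃ₗ[K] V) := by
    intro w hw
    have h1 : (n : V ≃ₗ[K] V) w ∈ fixS ((y ^ i : F.iso) : V ≃ₗ[K] V) :=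
      fixS_conj (x := (y : V ≃ₗ[K] V)) (x' := ((y ^ i : F.iso) : V ≃ₗ[K] V)) (g := (n : V ≃ₗ[K] V)) (fun v => by
        rw [← mul_apply, hny, mul_apply]) hw
    have h2 := hpow _ j _ h1
    rwa [hj] at h2
  have hcom := h.stable_com hfix
  obtain ⟨c, hc1, hc2⟩ := h.glue (LinearMap.id) ((n : V ≃ₗ[K] V) : V →ₗ[K] V) (fun u hu => hu) hfix
    (fun _ _ _ _ => rfl) (fun _ _ => rfl) (fun u _ v _ => F.iso_B n u v) (fun u _ => F.iso_Q n u)
  have hcK : c ∈ Ky F y := fun u hu => hc1 u hu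
  have hm1 : ∀ w ∈ fixS (y : V ≃ₗ[K] V), ((c⁻¹ * n : F.iso) : V ≃ₗ[K] V) w = w := by
    intro w hw
    rw [mul_apply]
    have h1 : (n : V ≃ₗ[K] V) w = (c : V ≃ₗ[K] V) w := (hc2 w hw).symm
    rw [h1]
    exact coe_inv_apply F c w
  have hm2 : ∀ u ∈ comS (y : V ≃ₗ[K] V), ((c⁻¹ * n : F.iso) : V ≃ₗ[K] V) u ∈ comS (y : V ≃ₗ[K] V) := by
    intro u hu
    rw [mul_apply, Subgroup.inv_mem _ hcK _ (hcom u hu)]
    exact hcom u hu
  refine ⟨c, hcK, fun k hk => ?_⟩
  have hmk : Commute (c⁻¹ * n) k := by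
    refine h.ext (fun u hu => ?_) fun w hw => ?_
    · rw [mul_apply F (c⁻¹ * n), mul_apply F k, hk u hu, hk _ (hm2 u hu)]
    · rw [mul_apply F (c⁻¹ * n), mul_apply F k, hm1 w hw, hm1 _ (h.Ky_fix hk hw)]
  calc n * k * n⁻¹ = c * ((c⁻¹ * n) * k) * (c⁻¹ * n)⁻¹ * c⁻¹ := by group
    _ = c * (k * (c⁻¹ * n)) * (c⁻¹ * n)⁻¹ * c⁻¹ := by rw [hmk.eq]
    _ = c * k * c⁻¹ := by group

end

end Cfsg.Agent.H477.OZ
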