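import Cfsg.Agent.H477.OZ.Torus

/-!
# Roots in the field generated by a big element (S4842, helper477)

* `Big.eq_pow` : `g` commuting with `y`, `g ^ r = 1`: `g = y ^ i` on `[V,y]`;
* `Big.exists_min` : every linear map commuting with `y` is annihilated on `[V,y]` by a polynomial of degree at most `D`;
* `Big.card_roots` : at most `deg m` restrictions to `[V,y]` of maps commuting with `y` are annihilated by `m`;
* `Big.isCyclic_of` : groups of such restrictions are cyclic.
-/

set_option autoImplicit false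
set_option linter.unusedSectionVars false

namespace Cfsg.Agent.H477.OZ

open Module Polynomial Cfsg.Agent.H477.HC

universe u v

variable {K : Type u} [Field K] {V : Type v} [AddCommGroup V] [Module K V]

/-- the polynomials which are zero on `[V,y]` -/
noncomputable def ann (y : V ≃ₗ[K] V) : Ideal K[X] where
  carrier := {p | ∀ u ∈ comS y, aeval (y : V →ₗ[K] V) p u = 0}
  zero_mem' := fun u _ => by simp
  add_mem' := by
    intro a b ha hb u hu
    rw [map_add, LinearMap.add_apply, ha u hu, hb u hu, add_zero]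
  smul_mem' := by
    intro c a ha u hu
    rw [smul_eq_mul, map_mul]
    show aeval (y : V →ₗ[K] V) c (aeval (y : V →ₗ[K] V) a u) = 0
    rw [ha u hu, map_zero]

theorem mem_ann {y : V ≃ₗ[K] V} {p : K[X]} : p ∈ ann y ↔ ∀ u ∈ comS y, aeval (y : V →ₗ[K] V) p u = 0 := Iff.rfl

theorem lin_pow (g : V ≃ₗ[K] V) (n : ℕ) : ((g ^ n : V ≃ₗ[K] V) : V →ₗ[K] V) = (g : V →ₗ[K] V) ^ n := by
  induction n with
  | zero => rfl
  | succ n ih => rw [pow_succ, pow_succ, ← ih]; rfl

variable [Finite K] [FiniteDimensional K V]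

section

variable {y : V ≃ₗ[K] V} {r : ℕ} (h : Big y r)

include h

theorem Big.isPrime_ann : (ann y).IsPrime := by
  refine ⟨?_, ?_⟩
  · intro h1
    have h2 : (1 : K[X]) ∈ ann y := h1 ▸ Submodule.mem_top
    obtain ⟨u₀, hu₀, h0⟩ := Submodule.exists_mem_ne_zero_of_ne_bot h.comS_ne
    have h3 := h2 u₀ hu₀
    rw [map_one] at h3
    exact h0 h3
  · intro a b hab
    rcases h.zero_or_inj (fun v => aeval_comm a v) with h1 | h1
    · exact Or.inl h1
    · right
      intro u hu
      refine h1 _ (h.comm_comS (fun v => aeval_comm b v) u hu) ?_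
      have := hab u hu
      rwa [map_mul] at this

/-- elements with `g ^ r = 1` commuting with `y` -/
theorem Big.eq_pow {g : V ≃ₗ[K] V} (hg : Commute g y) (hgr : g ^ r = 1) :
    ∃ i < r, ∀ u ∈ comS y, g u = (y ^ i) u := by
  have hP := h.isPrime_ann
  have hdom : IsDomain (K[X] ⧸ ann y) := Ideal.Quotient.isDomain (ann y)
  obtain ⟨p, hp⟩ := h.exists_poly (g := (g : V →ₗ[K] V)) (fun v => LinearEquiv.congr_fun hg.eq v)
  let q : K[X] →+* K[X] ⧸ ann y := Ideal.Quotient.mk (ann y)
  have hq : ∀ a b : K[X], q a = q b ↔ ∀ u ∈ comS y, aeval (y : V →ₗ[K] V) a u = aeval (y : V →ₗ[K] V) b u := by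
    intro a b
    rw [Ideal.Quotient.eq, mem_ann]
    refine forall₂_congr fun u hu => ?_
    rw [map_sub, LinearMap.sub_apply, sub_eq_zero]
  have hyX : ∀ n : ℕ, aeval (y : V →ₗ[K] V) (X ^ n : K[X]) = ((y ^ n : V ≃ₗ[K] V) : V →ₗ[K] V) := by
    intro n
    rw [map_pow, aeval_X, lin_pow]
  -- `X` has order `r`
  have hXr : q X ^ r = 1 := by
    rw [← map_pow, ← map_one q, hq]
    intro u hu
    rw [hyX, h.pow_eq, map_one]
    rfl
  have hX1 : q X ≠ 1 := by
    intro h1
    rw [← map_one q, hq] at h1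
    obtain ⟨u₀, hu₀, h0⟩ := Submodule.exists_mem_ne_zero_of_ne_bot h.comS_ne
    have h2 := h1 u₀ hu₀
    rw [aeval_X, map_one] at h2
    exact h0 (h.comS_fix u₀ hu₀ h2)
  have hprim : IsPrimitiveRoot (q X) r := by
    rw [IsPrimitiveRoot.iff_orderOf]
    exact orderOf_eq_prime hXr hX1 (hp := ⟨h.prime⟩)
  have hgpow : ∀ n : ℕ, ∀ u ∈ comS y, (g ^ n) u = aeval (y : V →ₗ[K] V) (p ^ n) u := by
    intro n
    induction n with
    | zero => intro u _; rw [pow_zero, pow_zero, map_one]; rfl
    | succ n ih =>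
      intro u hu
      rw [pow_apply_succ, ih u hu, pow_succ', map_mul]
      exact hp _ (h.comm_comS (fun v => aeval_comm (p ^ n) v) u hu)
  have hpr : q p ^ r = 1 := by
    rw [← map_pow, ← map_one q, hq]
    intro u hu
    rw [← hgpow r u hu, hgr, map_one]
    rfl
  have : NeZero r := ⟨h.prime.ne_zero⟩
  obtain ⟨i, hi, hi2⟩ := hprim.eq_pow_of_pow_eq_one hpr
  refine ⟨i, hi, fun u hu => ?_⟩
  rw [← map_pow, hq] at hi2
  have h3 := hi2 u hu
  rw [hyX] at h3
  have h4 : g u = aeval (y : V →ₗ[K] V) p u := hp u hu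
  rw [h4, ← h3]
  rfl

/-- a nonzero polynomial of degree at most `D` annihilating `f` on `[V,y]` -/
theorem Big.exists_min {f : V →ₗ[K] V} (hf : ∀ v, f (y v) = y (f v)) :
    ∃ m : K[X], m ≠ 0 ∧ m.natDegree ≤ orderOf (Nat.card K : ZMod r) ∧ ∀ u ∈ comS y, aeval f m u = 0 := by
  obtain ⟨u₀, hu₀, h0⟩ := Submodule.exists_mem_ne_zero_of_ne_bot h.comS_ne
  set D := orderOf (Nat.card K : ZMod r) with hD
  -- the vectors `f ^ i u₀`, `i ≤ D`, are dependent
  have hst : ∀ n : ℕ, (f ^ n) u₀ ∈ comS y := by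
    intro n
    induction n with
    | zero => exact hu₀
    | succ n ih => rw [pow_succ']; exact h.comm_comS hf _ ih
  let f' : Fin (D + 1) → comS y := fun i => ⟨(f ^ (i : ℕ)) u₀, hst i⟩
  have hdep : ¬ LinearIndependent K f' := by
    intro hli
    have h1 := hli.fintype_card_le_finrank
    rw [Fintype.card_fin, h.finrank_comS] at h1
    omega
  obtain ⟨g, hg, i, hi⟩ := Fintype.not_linearIndependent_iff.1 hdep
  let m : K[X] := ∑ j : Fin (D + 1), C (g j) * X ^ (j : ℕ)
  have hcoeff : ∀ j : Fin (D + 1), m.coeff j = g j := by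
    intro j
    simp only [m, finsetSum_coeff, coeff_C_mul, coeff_X_pow]
    rw [Finset.sum_eq_single j]
    · simp
    · intro b _ hb
      rw [if_neg (fun h' => hb (Fin.ext h'.symm)), mul_zero]
    · intro h'; exact absurd (Finset.mem_univ j) h'
  refine ⟨m, ?_, ?_, ?_⟩
  · intro hm
    apply hi
    rw [← hcoeff i, hm, coeff_zero]
  · refine natDegree_sum_le_of_forall_le _ _ fun j _ => ?_
    exact (natDegree_C_mul_X_pow_le _ _).trans (by have := j.2; omega)
  · -- zero on `u₀`, hence everywhere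
    have h1 : aeval f m u₀ = 0 := by
      have h2 : (∑ j, g j • f' j : comS y) = 0 := hg
      have h3 := congrArg Subtype.val h2
      simp only [m, map_sum, map_mul, aeval_C, map_pow, aeval_X, LinearMap.sum_apply]
      rw [Submodule.coe_zero, AddSubmonoidClass.coe_finsetSum] at h3
      rw [← h3]
      refine Finset.sum_congr rfl fun j _ => ?_
      rfl
    have hcomm : ∀ v, aeval f m (y v) = y (aeval f m v) := by
      intro v
      have hc : Commute (f : Module.End K V) (y : V →ₗ[K] V) := LinearMap.ext hf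
      exact LinearMap.congr_fun (commute_aeval hc.symm m).symm.eq v
    rcases h.zero_or_inj hcomm with h2 | h2
    · exact h2
    · exact absurd (h2 u₀ hu₀ h1) h0

/-- **Counting conjugates.**  `S` a set of linear maps commuting with `y`, pairwise different on `[V,y]`, annihilated on
`[V,y]` by the polynomial `m`. -/
theorem Big.card_roots {ι : Type*} (S : Finset ι) (g : ι → V →ₗ[K] V) (hg : ∀ i ∈ S, ∀ v, g i (y v) = y (g i v))
    (hinj : ∀ i ∈ S, ∀ j ∈ S, (∀ u ∈ comS y, g i u = g j u) → i = j) {m : K[X]} (hm0 : m ≠ 0)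
    (hroot : ∀ i ∈ S, ∀ u ∈ comS y, aeval (g i) m u = 0) : S.card ≤ m.natDegree := by
  classical
  have hP := h.isPrime_ann
  have hdom : IsDomain (K[X] ⧸ ann y) := Ideal.Quotient.isDomain (ann y)
  let q : K[X] →+* K[X] ⧸ ann y := Ideal.Quotient.mk (ann y)
  have hq : ∀ a b : K[X], q a = q b ↔ ∀ u ∈ comS y, aeval (y : V →ₗ[K] V) a u = aeval (y : V →ₗ[K] V) b u := by
    intro a b
    rw [Ideal.Quotient.eq, mem_ann]
    refine forall₂_congr fun u hu => ?_
    rw [map_sub, LinearMap.sub_apply, sub_eq_zero]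
  have hex : ∀ i : ι, ∃ p : K[X], i ∈ S → ∀ u ∈ comS y, g i u = aeval (y : V →ₗ[K] V) p u := by
    intro i
    by_cases hi : i ∈ S
    · obtain ⟨p, hp⟩ := h.exists_poly (hg i hi)
      exact ⟨p, fun _ => hp⟩
    · exact ⟨0, fun h' => absurd h' hi⟩
  choose P hP using hex
  -- the polynomial over the quotient
  let φ : K →+* K[X] ⧸ ann y := q.comp C
  have hφ : Function.Injective φ := φ.injective
  let M : (K[X] ⧸ ann y)[X] := m.map φ
  have hM0 : M ≠ 0 := (Polynomial.map_ne_zero_iff hφ).2 hm0
  have hroots : ∀ i ∈ S, q (P i) ∈ M.roots := by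
    intro i hi
    rw [mem_roots hM0, IsRoot.def, eval_map]
    have h1 : eval₂ φ (q (P i)) m = q (m.comp (P i)) := by
      rw [Polynomial.comp, hom_eval₂]
    rw [h1, ← map_zero q, hq]
    intro u hu
    rw [map_zero, aeval_comp]
    -- `m(P_i(y)) = m(g_i)` on `[V,y]`
    have h2 : ∀ s : K[X], ∀ u ∈ comS y, aeval (aeval (y : V →ₗ[K] V) (P i)) s u = aeval (g i) s u := by
      intro s
      have hpw : ∀ n : ℕ, ∀ u ∈ comS y, ((aeval (y : V →ₗ[K] V) (P i)) ^ n) u = ((g i) ^ n) u := by
        intro n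
        induction n with
        | zero => intro u _; rfl
        | succ n ih =>
          intro u hu
          rw [pow_succ, pow_succ]
          show ((aeval (y : V →ₗ[K] V) (P i)) ^ n) (aeval (y : V →ₗ[K] V) (P i) u) = ((g i) ^ n) (g i u)
          rw [← hP i hi u hu]
          exact ih _ (h.comm_comS (hg i hi) u hu)
      induction s using Polynomial.induction_on' with
      | add p q hp hq =>
        intro u hu
        rw [map_add, map_add, LinearMap.add_apply, LinearMap.add_apply, hp u hu, hq u hu]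
      | monomial n a =>
        intro u hu
        rw [aeval_monomial, aeval_monomial]
        show (algebraMap K (V →ₗ[K] V)) a (((aeval (y : V →ₗ[K] V) (P i)) ^ n) u) =
          (algebraMap K (V →ₗ[K] V)) a (((g i) ^ n) u)
        rw [hpw n u hu]
    rw [h2 m u hu, hroot i hi u hu]
    rfl
  have hcard : S.card ≤ M.roots.toFinset.card := by
    refine Finset.card_le_card_of_injOn (fun i => q (P i)) (fun i hi => ?_) ?_
    · exact Multiset.mem_toFinset.2 (hroots i hi)
    · intro i hi j hj hij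
      refine hinj i hi j hj fun u hu => ?_
      rw [hP i hi u hu, hP j hj u hu]
      exact (hq _ _).1 hij u hu
  have h5 : M.roots.toFinset.card ≤ M.natDegree := (Multiset.toFinset_card_le _).trans (card_roots' M)
  have h6 : M.natDegree ≤ m.natDegree := natDegree_map_le
  omega

/-- groups acting faithfully on `[V,y]` by maps commuting with `y` are cyclic -/
theorem Big.isCyclic_of {A : Type*} [Group A] [Finite A] (φ : A →* (V ≃ₗ[K] V)) (hφ : ∀ a, Commute (φ a) y)
    (hinj : ∀ a, (∀ u ∈ comS y, φ a u = u) → a = 1) : IsCyclic A := by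
  classical
  have hP := h.isPrime_ann
  have hdom : IsDomain (K[X] ⧸ ann y) := Ideal.Quotient.isDomain (ann y)
  let q : K[X] →+* K[X] ⧸ ann y := Ideal.Quotient.mk (ann y)
  have hq : ∀ a b : K[X], q a = q b ↔ ∀ u ∈ comS y, aeval (y : V →ₗ[K] V) a u = aeval (y : V →ₗ[K] V) b u := by
    intro a b
    rw [Ideal.Quotient.eq, mem_ann]
    refine forall₂_congr fun u hu => ?_
    rw [map_sub, LinearMap.sub_apply, sub_eq_zero]
  have hc : ∀ a v, φ a (y v) = y (φ a v) := fun a v => LinearEquiv.congr_fun (hφ a).eq v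
  choose P hP' using fun a => h.exists_poly (g := (φ a : V →ₗ[K] V)) (hc a)
  have hPa : ∀ a, ∀ u ∈ comS y, φ a u = aeval (y : V →ₗ[K] V) (P a) u := fun a u hu => hP' a u hu
  let f : A →* K[X] ⧸ ann y :=
    { toFun := fun a => q (P a)
      map_one' := by
        rw [← map_one q, hq]
        intro u hu
        rw [← hPa 1 u hu, map_one, map_one]
        rfl
      map_mul' := by
        intro a b
        rw [← map_mul, hq]
        intro u hu
        rw [← hPa (a * b) u hu, map_mul, map_mul]
        show φ a (φ b u) = aeval (y : V →ₗ[K] V) (P a) (aeval (y : V →ₗ[K] V) (P b) u)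
        rw [← hPa b u hu]
        exact hPa a _ (h.comm_comS (g := (φ b : V →ₗ[K] V)) (hc b) u hu) }
  refine isCyclic_of_subgroup_isDomain f ?_
  rw [injective_iff_map_eq_one]
  intro a ha
  refine hinj a fun u hu => ?_
  have h1 : q (P a) = q 1 := by rw [map_one]; exact ha
  rw [hPa a u hu, (hq _ _).1 h1 u hu, map_one]
  rfl

end

end Cfsg.Agent.H477.OZ
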