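import Cfsg.Agent.H477.OZ.Iso

/-!
# The torus of the norm one elements (S4842, helper477)

`torus y` : the isometries commuting with `y` and trivial on `C_V(y)`; `|torus y| ≥ q ^ k + 1` if `D = 2 k`
(`card_torus`).
-/

set_option autoImplicit false
set_option linter.unusedSectionVars false

namespace Cfsg.Agent.H477.OZ

open Module Polynomial Cfsg.Agent.H477.HC

universe u v

variable {K : Type u} [Field K] {V : Type v} [AddCommGroup V] [Module K V] (F : CForm K V)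

/-- isometries commuting with `y` and trivial on the fixed space of `y` -/
def torus (y : F.iso) : Subgroup F.iso where
  carrier := {t | Commute t y ∧ ∀ w ∈ fixS (y : V ≃ₗ[K] V), (t : V ≃ₗ[K] V) w = w}
  one_mem' := ⟨Commute.one_left y, fun _ _ => rfl⟩
  mul_mem' := by
    rintro a b ⟨ha, ha'⟩ ⟨hb, hb'⟩
    refine ⟨ha.mul_left hb, fun w hw => ?_⟩
    show (a : V ≃ₗ[K] V) ((b : V ≃ₗ[K] V) w) = w
    rw [hb' w hw, ha' w hw]
  inv_mem' := by
    rintro a ⟨ha, ha'⟩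
    refine ⟨ha.inv_left, fun w hw => ?_⟩
    conv_lhs => rw [← ha' w hw]
    exact (a : V ≃ₗ[K] V).symm_apply_apply w

theorem mem_torus {y t : F.iso} : t ∈ torus F y ↔ Commute t y ∧ ∀ w ∈ fixS (y : V ≃ₗ[K] V), (t : V ≃ₗ[K] V) w = w :=
  Iff.rfl

theorem coe_inv_apply (y : F.iso) (v : V) : ((y⁻¹ : F.iso) : V ≃ₗ[K] V) ((y : V ≃ₗ[K] V) v) = v :=
  (y : V ≃ₗ[K] V).symm_apply_apply v

theorem coe_apply_inv (y : F.iso) (v : V) : (y : V ≃ₗ[K] V) (((y⁻¹ : F.iso) : V ≃ₗ[K] V) v) = v :=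
  (y : V ≃ₗ[K] V).apply_symm_apply v

/-- the adjoint of a polynomial in `y` -/
theorem adj_poly (hσ : ∀ a, F.σ a = a) (y : F.iso) (p : K[X]) (v w : V) :
    F.B (aeval ((y : V ≃ₗ[K] V) : V →ₗ[K] V) p v) w =
      F.B v (aeval (((y⁻¹ : F.iso) : V ≃ₗ[K] V) : V →ₗ[K] V) p w) := by
  have hpow : ∀ (n : ℕ) (v w : V), F.B ((((y : V ≃ₗ[K] V) : V →ₗ[K] V) ^ n) v) w =
      F.B v (((((y⁻¹ : F.iso) : V ≃ₗ[K] V) : V →ₗ[K] V) ^ n) w) := by
    intro n
    induction n with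
    | zero => intro v w; rfl
    | succ n ih =>
      intro v w
      rw [pow_succ, pow_succ']
      show F.B ((((y : V ≃ₗ[K] V) : V →ₗ[K] V) ^ n) ((y : V ≃ₗ[K] V) v)) w =
        F.B v (((y⁻¹ : F.iso) : V ≃ₗ[K] V) (((((y⁻¹ : F.iso) : V ≃ₗ[K] V) : V →ₗ[K] V) ^ n) w))
      rw [ih, ← F.iso_B y v, coe_apply_inv]
  induction p using Polynomial.induction_on' with
  | add p q hp hq => rw [map_add, map_add, LinearMap.add_apply, LinearMap.add_apply, F.B_add_left, F.B_add_right, hp, hq]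
  | monomial n a =>
    rw [aeval_monomial, aeval_monomial]
    show F.B (a • ((((y : V ≃ₗ[K] V) : V →ₗ[K] V) ^ n) v)) w =
      F.B v (a • (((((y⁻¹ : F.iso) : V ≃ₗ[K] V) : V →ₗ[K] V) ^ n) w))
    rw [F.B_smul_left, F.B_smul_right, hσ, hpow]

theorem comm_inv (y : F.iso) (p : K[X]) (v : V) :
    aeval (((y⁻¹ : F.iso) : V ≃ₗ[K] V) : V →ₗ[K] V) p ((y : V ≃ₗ[K] V) v) =
      (y : V ≃ₗ[K] V) (aeval (((y⁻¹ : F.iso) : V ≃ₗ[K] V) : V →ₗ[K] V) p v) := by
  have h1 := aeval_comm (y := ((y⁻¹ : F.iso) : V ≃ₗ[K] V)) p ((y : V ≃ₗ[K] V) v)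
  rw [coe_inv_apply] at h1
  rw [h1, coe_apply_inv]

theorem commute_aeval {f g : Module.End K V} (hfg : Commute f g) (s : K[X]) : Commute f (aeval g s) := by
  induction s using Polynomial.induction_on' with
  | add p q hp hq => rw [map_add]; exact hp.add_right hq
  | monomial n a =>
    rw [aeval_monomial]
    exact Commute.mul_right (Algebra.commutes' a f).symm (hfg.pow_right n)

theorem commute_aeval' {f g : Module.End K V} (hfg : Commute f g) (p s : K[X]) :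
    Commute (aeval f p) (aeval g s) := (commute_aeval (commute_aeval hfg s).symm p).symm

theorem commute_inv (y : F.iso) : Commute (((y : V ≃ₗ[K] V) : V →ₗ[K] V) : Module.End K V)
    (((y⁻¹ : F.iso) : V ≃ₗ[K] V) : V →ₗ[K] V) := by
  refine LinearMap.ext fun v => ?_
  show (y : V ≃ₗ[K] V) (((y⁻¹ : F.iso) : V ≃ₗ[K] V) v) = ((y⁻¹ : F.iso) : V ≃ₗ[K] V) ((y : V ≃ₗ[K] V) v)
  rw [coe_apply_inv, coe_inv_apply]

variable [Finite K] [FiniteDimensional K V]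

variable {F} {y : F.iso} {r : ℕ} (h : Big (y : V ≃ₗ[K] V) r)

include h

/-- a polynomial in `y` is zero on the commutator space iff the polynomial in `y⁻¹` is -/
theorem Big.inv_zero (hσ : ∀ a, F.σ a = a) {p : K[X]}
    (hp : ∀ u ∈ comS (y : V ≃ₗ[K] V), aeval ((y : V ≃ₗ[K] V) : V →ₗ[K] V) p u = 0) (u : V)
    (hu : u ∈ comS (y : V ≃ₗ[K] V)) : aeval (((y⁻¹ : F.iso) : V ≃ₗ[K] V) : V →ₗ[K] V) p u = 0 := by
  refine h.nondeg_com _ (h.comm_comS (fun v => comm_inv F y p v) u hu) fun v hv => ?_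
  rw [← adj_poly F hσ, hp v hv, F.B_zero_left]

theorem Big.poly_zero_of {p : K[X]} {u₀ : V} (hu₀ : u₀ ∈ comS (y : V ≃ₗ[K] V)) (h0 : u₀ ≠ 0)
    (hp : aeval ((y : V ≃ₗ[K] V) : V →ₗ[K] V) p u₀ = 0) (u : V) (hu : u ∈ comS (y : V ≃ₗ[K] V)) :
    aeval ((y : V ≃ₗ[K] V) : V →ₗ[K] V) p u = 0 := by
  rcases h.zero_or_inj (fun v => aeval_comm (y := (y : V ≃ₗ[K] V)) p v) with h1 | h1
  · exact h1 u hu
  · exact absurd (h1 u₀ hu₀ hp) h0

theorem Big.odd (h2 : 2 ≤ orderOf (Nat.card K : ZMod r)) : r ≠ 2 := by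
  rintro rfl
  have h1 : (Nat.card K : ZMod 2) ^ 1 = 1 := by
    rw [pow_one]
    exact ZMod.natCast_eq_one_iff_odd.2 (Nat.not_even_iff_odd.1 fun he => h.ndvd he.two_dvd)
  have := Nat.le_of_dvd one_pos (orderOf_dvd_of_pow_eq_one h1)
  omega

/-- the space of the self-adjoint elements -/
def sa (y : F.iso) (u₀ : V) : Submodule K V where
  carrier := {x | ∃ p : K[X], aeval ((y : V ≃ₗ[K] V) : V →ₗ[K] V) p u₀ = x ∧
    aeval (((y⁻¹ : F.iso) : V ≃ₗ[K] V) : V →ₗ[K] V) p u₀ = x}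
  zero_mem' := ⟨0, by simp, by simp⟩
  add_mem' := by
    rintro _ _ ⟨p, hp, hp'⟩ ⟨s, hs, hs'⟩
    refine ⟨p + s, ?_, ?_⟩
    · rw [map_add, LinearMap.add_apply, hp, hs]
    · rw [map_add, LinearMap.add_apply, hp', hs']
  smul_mem' := by
    rintro c _ ⟨p, hp, hp'⟩
    refine ⟨c • p, ?_, ?_⟩
    · rw [map_smul, LinearMap.smul_apply, hp]
    · rw [map_smul, LinearMap.smul_apply, hp']

theorem Big.finrank_sa (hσ : ∀ a, F.σ a = a) (h2 : 2 ≤ orderOf (Nat.card K : ZMod r)) {u₀ : V}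
    (hu₀ : u₀ ∈ comS (y : V ≃ₗ[K] V)) (h0 : u₀ ≠ 0) :
    finrank K (sa y u₀) + finrank K (sa y u₀) ≤ orderOf (Nat.card K : ZMod r) := by
  have hle : ∀ x ∈ sa y u₀, x ∈ comS (y : V ≃ₗ[K] V) := by
    rintro _ ⟨p, rfl, -⟩
    exact h.comm_comS (fun v => aeval_comm (y := (y : V ≃ₗ[K] V)) p v) u₀ hu₀
  let L : (sa y u₀) × (sa y u₀) →ₗ[K] comS (y : V ≃ₗ[K] V) :=
    { toFun := fun a => ⟨(a.1 : V) + (y : V ≃ₗ[K] V) a.2,
        (comS (y : V ≃ₗ[K] V)).add_mem (hle _ a.1.2) (h.comS_stable _ (hle _ a.2.2))⟩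
      map_add' := fun a b => by
        apply Subtype.ext
        show ((a.1 : V) + (b.1 : V)) + (y : V ≃ₗ[K] V) ((a.2 : V) + (b.2 : V)) =
          ((a.1 : V) + (y : V ≃ₗ[K] V) a.2) + ((b.1 : V) + (y : V ≃ₗ[K] V) b.2)
        rw [map_add]
        abel
      map_smul' := fun c a => by
        apply Subtype.ext
        show c • (a.1 : V) + (y : V ≃ₗ[K] V) (c • (a.2 : V)) = c • ((a.1 : V) + (y : V ≃ₗ[K] V) a.2)
        rw [map_smul, smul_add] }
  have hinj : Function.Injective L := by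
    rw [← LinearMap.ker_eq_bot, Submodule.eq_bot_iff]
    rintro ⟨⟨x, p, hp, hp'⟩, ⟨x', p', hs, hs'⟩⟩ hL
    have hL' : x + (y : V ≃ₗ[K] V) x' = 0 := congrArg Subtype.val (LinearMap.mem_ker.1 hL)
    -- the polynomial `p + X p'` kills `u₀`
    have h1 : aeval ((y : V ≃ₗ[K] V) : V →ₗ[K] V) (p + X * p') u₀ = 0 := by
      rw [map_add, map_mul, aeval_X, LinearMap.add_apply, hp]
      show x + (y : V ≃ₗ[K] V) (aeval ((y : V ≃ₗ[K] V) : V →ₗ[K] V) p' u₀) = 0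
      rw [hs, hL']
    have h3 := h.inv_zero hσ (fun u hu => h.poly_zero_of hu₀ h0 h1 u hu) u₀ hu₀
    rw [map_add, map_mul, aeval_X, LinearMap.add_apply, hp'] at h3
    have h4 : x + ((y⁻¹ : F.iso) : V ≃ₗ[K] V) x' = 0 := by
      rw [← hs']
      exact h3
    have h5 : (y : V ≃ₗ[K] V) x' = ((y⁻¹ : F.iso) : V ≃ₗ[K] V) x' := by
      have := hL'.trans h4.symm
      exact add_left_cancel this
    have h6 : ((y : V ≃ₗ[K] V) ^ 2) x' = x' := by
      rw [pow_two]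
      show (y : V ≃ₗ[K] V) ((y : V ≃ₗ[K] V) x') = x'
      rw [h5, coe_apply_inv]
    have h7 : (y : V ≃ₗ[K] V) x' = x' := by
      have hodd : Odd r := h.prime.odd_of_ne_two (h.odd h2)
      obtain ⟨j, hj⟩ := hodd
      have h8 : ∀ n : ℕ, (((y : V ≃ₗ[K] V) ^ 2) ^ n) x' = x' := by
        intro n
        induction n with
        | zero => rfl
        | succ n ih => rw [pow_apply_succ, ih, h6]
      have h9 : ((y : V ≃ₗ[K] V) ^ r) x' = x' := by rw [h.pow_eq]; rfl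
      rw [hj, pow_apply_succ, pow_mul, h8 j] at h9
      exact h9
    have hx' : x' = 0 := h.comS_fix x' (hle x' ⟨p', hs, hs'⟩) h7
    have hx : x = 0 := by rw [hx', map_zero, add_zero] at hL'; exact hL'
    refine Prod.ext (Subtype.ext hx) (Subtype.ext hx')
  have h1 := LinearMap.finrank_le_finrank_of_injective hinj
  rw [Module.finrank_prod, h.finrank_comS] at h1
  exact h1

/-- **The order of the torus.** -/
theorem Big.card_torus (hσ : ∀ a, F.σ a = a) {k : ℕ} (hk : 1 ≤ k) (hD : orderOf (Nat.card K : ZMod r) = 2 * k)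
    (hQ : ∀ a : V →ₗ[K] V, (∀ v, a ((y : V ≃ₗ[K] V) v) = (y : V ≃ₗ[K] V) (a v)) →
      (∀ u ∈ comS (y : V ≃ₗ[K] V), ∀ v ∈ comS (y : V ≃ₗ[K] V), F.B (a u) (a v) = F.B u v) →
      ∀ u ∈ comS (y : V ≃ₗ[K] V), F.Q (a u) = F.Q u) :
    Nat.card K ^ k + 1 ≤ Nat.card (torus F y) := by
  classical
  have : Finite V := Module.finite_of_finite K
  have : Finite (V ≃ₗ[K] V) := Finite.of_injective (fun e => (e : V → V)) (fun a b hab => LinearEquiv.ext fun v => congrFun hab v)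
  have : Finite F.iso := Subtype.finite
  have := Fintype.ofFinite V
  obtain ⟨u₀, hu₀, h0⟩ := Submodule.exists_mem_ne_zero_of_ne_bot h.comS_ne
  set U := comS (y : V ≃ₗ[K] V) with hU
  -- the polynomials
  have hex : ∀ u : V, ∃ p : K[X], u ∈ U → aeval ((y : V ≃ₗ[K] V) : V →ₗ[K] V) p u₀ = u := by
    intro u
    by_cases hu : u ∈ U
    · obtain ⟨p, hp⟩ := h.exists_aeval hu₀ h0 u hu
      exact ⟨p, fun _ => hp⟩
    · exact ⟨0, fun h' => absurd h' hu⟩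
  choose P hP using hex
  let β : V → V := fun u => aeval (((y⁻¹ : F.iso) : V ≃ₗ[K] V) : V →ₗ[K] V) (P u)
    (aeval ((y : V ≃ₗ[K] V) : V →ₗ[K] V) (P u) u₀)
  let S : Finset V := Finset.univ.filter fun u => u ∈ U ∧ u ≠ 0
  have hcommP : ∀ (p s : K[X]) (v : V), aeval ((y : V ≃ₗ[K] V) : V →ₗ[K] V) p
      (aeval (((y⁻¹ : F.iso) : V ≃ₗ[K] V) : V →ₗ[K] V) s v) =
      aeval (((y⁻¹ : F.iso) : V ≃ₗ[K] V) : V →ₗ[K] V) s (aeval ((y : V ≃ₗ[K] V) : V →ₗ[K] V) p v) :=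
    fun p s v => LinearMap.congr_fun (commute_aeval' (commute_inv F y) p s).eq v
  have hS : ∀ u, u ∈ S ↔ u ∈ U ∧ u ≠ 0 := fun u => by simp [S]
  have hpowy : ∀ (z : F.iso) (n : ℕ), (((z : V ≃ₗ[K] V) : V →ₗ[K] V)) ^ n = ((z ^ n : F.iso) : V ≃ₗ[K] V) := by
    intro z n
    induction n with
    | zero => rfl
    | succ n ih => rw [pow_succ, pow_succ, ih]; rfl
  have hyr : y ^ r = 1 := by
    apply Subtype.ext
    rw [Subgroup.coe_pow, h.pow_eq]
    rfl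
  have hr1 : 1 ≤ r := h.prime.one_lt.le
  have hyi : y⁻¹ = y ^ (r - 1) := by
    rw [inv_eq_iff_mul_eq_one, ← pow_succ', Nat.sub_add_cancel hr1, hyr]
  have hyi' : y = (y⁻¹) ^ (r - 1) := by
    rw [inv_pow, ← hyi, inv_inv]
  have hUst : ∀ (p : K[X]), ∀ u ∈ U, aeval ((y : V ≃ₗ[K] V) : V →ₗ[K] V) p u ∈ U := fun p u hu =>
    h.comm_comS (fun v => aeval_comm (y := (y : V ≃ₗ[K] V)) p v) u hu
  have hUst' : ∀ (p : K[X]), ∀ u ∈ U, aeval (((y⁻¹ : F.iso) : V ≃ₗ[K] V) : V →ₗ[K] V) p u ∈ U := fun p u hu =>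
    h.comm_comS (fun v => comm_inv F y p v) u hu
  have hβsa : ∀ u, β u ∈ sa y u₀ := by
    intro u
    refine ⟨(P u).comp (X ^ (r - 1)) * P u, ?_, ?_⟩
    · rw [map_mul, aeval_comp, map_pow, aeval_X, hpowy, ← hyi]
      rfl
    · rw [map_mul, aeval_comp, map_pow, aeval_X, hpowy, ← hyi']
      exact hcommP _ _ _
  have hinjinv : ∀ p : K[X], (∀ u ∈ U, aeval (((y⁻¹ : F.iso) : V ≃ₗ[K] V) : V →ₗ[K] V) p u = 0) →
      ∀ u ∈ U, aeval ((y : V ≃ₗ[K] V) : V →ₗ[K] V) p u = 0 := by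
    intro p hp u hu
    refine h.nondeg_com _ (hUst p u hu) fun v hv => F.B_eq_zero ?_
    rw [adj_poly F hσ, hp v hv, F.B_zero_right]
  have hβ0 : ∀ u ∈ S, β u ≠ 0 := by
    intro u hu hb
    obtain ⟨huU, hu0⟩ := (hS u).1 hu
    have e1 : aeval (((y⁻¹ : F.iso) : V ≃ₗ[K] V) : V →ₗ[K] V) (P u) u = 0 := by
      conv_lhs => arg 2; rw [← hP u huU]
      exact hb
    rcases h.zero_or_inj (fun v => comm_inv F y (P u) v) with h1 | h1
    · exact hu0 (by rw [← hP u huU]; exact hinjinv _ h1 u₀ hu₀)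
    · exact hu0 (h1 u huU e1)
  -- the fibres
  have hfib : ∀ b ∈ S.image β, (S.filter fun u => β u = b).card ≤ Nat.card (torus F y) := by
    intro b hb
    obtain ⟨u₁, hu₁, rfl⟩ := Finset.mem_image.1 hb
    obtain ⟨hu₁U, hu₁0⟩ := (hS u₁).1 hu₁
    have := Fintype.ofFinite (torus F y)
    have hsub : (S.filter fun u => β u = β u₁) ⊆
        (Finset.univ : Finset (torus F y)).image fun t : torus F y => ((t : F.iso) : V ≃ₗ[K] V) u₁ := by
      intro u hu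
      obtain ⟨huS, hub⟩ := Finset.mem_filter.1 hu
      obtain ⟨huU, hu0⟩ := (hS u).1 huS
      obtain ⟨s, hs⟩ := h.exists_aeval hu₁U hu₁0 u huU
      -- `s(y) P_{u₁}(y) = P_u(y)` on `U`
      have h3 : ∀ v ∈ U, aeval ((y : V ≃ₗ[K] V) : V →ₗ[K] V) (s * P u₁ - P u) v = 0 := by
        apply h.poly_zero_of hu₀ h0
        rw [map_sub, map_mul, LinearMap.sub_apply, hP u huU]
        show aeval ((y : V ≃ₗ[K] V) : V →ₗ[K] V) s (aeval ((y : V ≃ₗ[K] V) : V →ₗ[K] V) (P u₁) u₀) - u = 0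
        rw [hP u₁ hu₁U, hs, sub_self]
      have h4 := h.inv_zero hσ h3
      -- `s(y⁻¹) s(y)` fixes `β u₁`
      have h5 : aeval (((y⁻¹ : F.iso) : V ≃ₗ[K] V) : V →ₗ[K] V) s (aeval ((y : V ≃ₗ[K] V) : V →ₗ[K] V) s (β u₁)) =
          β u₁ := by
        have e1 : β u = aeval (((y⁻¹ : F.iso) : V ≃ₗ[K] V) : V →ₗ[K] V) (s * P u₁)
            (aeval ((y : V ≃ₗ[K] V) : V →ₗ[K] V) (P u) u₀) := by
          have e2 := h4 _ (hUst (P u) u₀ hu₀)
          rw [map_sub, LinearMap.sub_apply, sub_eq_zero] at e2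
          exact e2.symm
        have e3 : aeval ((y : V ≃ₗ[K] V) : V →ₗ[K] V) (P u) u₀ =
            aeval ((y : V ≃ₗ[K] V) : V →ₗ[K] V) s (aeval ((y : V ≃ₗ[K] V) : V →ₗ[K] V) (P u₁) u₀) := by
          rw [hP u huU, hP u₁ hu₁U, hs]
        have e4 : β u = aeval (((y⁻¹ : F.iso) : V ≃ₗ[K] V) : V →ₗ[K] V) s
            (aeval ((y : V ≃ₗ[K] V) : V →ₗ[K] V) s (β u₁)) := by
          rw [e1, e3, map_mul]
          show aeval (((y⁻¹ : F.iso) : V ≃ₗ[K] V) : V →ₗ[K] V) s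
            (aeval (((y⁻¹ : F.iso) : V ≃ₗ[K] V) : V →ₗ[K] V) (P u₁) (aeval ((y : V ≃ₗ[K] V) : V →ₗ[K] V) s _)) = _
          rw [← hcommP s (P u₁)]
        rw [← e4, hub]
      have h6 : ∀ v ∈ U, aeval (((y⁻¹ : F.iso) : V ≃ₗ[K] V) : V →ₗ[K] V) s
          (aeval ((y : V ≃ₗ[K] V) : V →ₗ[K] V) s v) = v := by
        let g : V →ₗ[K] V := aeval (((y⁻¹ : F.iso) : V ≃ₗ[K] V) : V →ₗ[K] V) s ∘ₗ
          aeval ((y : V ≃ₗ[K] V) : V →ₗ[K] V) s - LinearMap.id
        have hg : ∀ v, g ((y : V ≃ₗ[K] V) v) = (y : V ≃ₗ[K] V) (g v) := by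
          intro v
          show aeval (((y⁻¹ : F.iso) : V ≃ₗ[K] V) : V →ₗ[K] V) s (aeval ((y : V ≃ₗ[K] V) : V →ₗ[K] V) s
            ((y : V ≃ₗ[K] V) v)) - (y : V ≃ₗ[K] V) v = (y : V ≃ₗ[K] V) (_ - v)
          rw [aeval_comm, comm_inv, map_sub]
          rfl
        rcases h.zero_or_inj hg with h7 | h7
        · intro v hv
          exact sub_eq_zero.1 (h7 v hv)
        · exfalso
          refine hβ0 u₁ hu₁ (h7 _ (hUst' _ _ (hUst _ _ hu₀)) ?_)
          show _ - β u₁ = 0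
          rw [sub_eq_zero]
          exact h5
      obtain ⟨t, ht1, ht2⟩ := h.glue (F := F) (aeval ((y : V ≃ₗ[K] V) : V →ₗ[K] V) s) LinearMap.id
        (hUst s) (fun w hw => hw) (fun u hu v hv => by rw [adj_poly F hσ, h6 v hv])
        (hQ _ (fun v => aeval_comm (y := (y : V ≃ₗ[K] V)) s v) (fun u hu v hv => by rw [adj_poly F hσ, h6 v hv]))
        (fun _ _ _ _ => rfl) (fun _ _ => rfl)
      have htT : t ∈ torus F y := by
        refine ⟨?_, fun w hw => ht2 w hw⟩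
        apply Subtype.ext
        refine LinearEquiv.ext fun v => ?_
        show (t : V ≃ₗ[K] V) ((y : V ≃ₗ[K] V) v) = (y : V ≃ₗ[K] V) ((t : V ≃ₗ[K] V) v)
        obtain ⟨a, ha, b, hb, rfl⟩ := Submodule.mem_sup.1 (h.isCompl.sup_eq_top ▸ Submodule.mem_top :
          v ∈ comS (y : V ≃ₗ[K] V) ⊔ fixS (y : V ≃ₗ[K] V))
        have hyb : (y : V ≃ₗ[K] V) b = b := mem_fixS.1 hb
        have e1 : (t : V ≃ₗ[K] V) ((y : V ≃ₗ[K] V) (a + b)) =
            aeval ((y : V ≃ₗ[K] V) : V →ₗ[K] V) s ((y : V ≃ₗ[K] V) a) + b := by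
          rw [map_add, map_add, hyb, ht1 _ (h.comS_stable a ha), ht2 b hb]
          rfl
        have e2 : (y : V ≃ₗ[K] V) ((t : V ≃ₗ[K] V) (a + b)) =
            (y : V ≃ₗ[K] V) (aeval ((y : V ≃ₗ[K] V) : V →ₗ[K] V) s a) + b := by
          rw [map_add, map_add, ht1 a ha, ht2 b hb]
          show _ + (y : V ≃ₗ[K] V) b = _
          rw [hyb]
        rw [e1, e2, aeval_comm]
      refine Finset.mem_image.2 ⟨⟨t, htT⟩, Finset.mem_univ _, ?_⟩
      show (t : V ≃ₗ[K] V) u₁ = u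
      rw [ht1 u₁ hu₁U, hs]
    refine (Finset.card_le_card hsub).trans (Finset.card_image_le.trans ?_)
    rw [Finset.card_univ, Nat.card_eq_fintype_card]
  have hcount := Finset.card_le_mul_card_image S _ hfib
  -- the cardinalities
  have hScard : S.card = Nat.card K ^ (2 * k) - 1 := by
    have h3 : (Finset.univ.filter fun u => u ∈ U).card = Nat.card K ^ (2 * k) := by
      rw [← hD, ← h.finrank_comS, ← Module.natCard_eq_pow_finrank (K := K), Nat.card_eq_fintype_card,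
        Fintype.card_subtype]
    have h4 : S = (Finset.univ.filter fun u => u ∈ U).erase 0 := by
      ext u
      rw [hS, Finset.mem_erase, Finset.mem_filter]
      simp only [Finset.mem_univ, true_and]
      exact and_comm
    rw [h4, Finset.card_erase_of_mem (Finset.mem_filter.2 ⟨Finset.mem_univ _, U.zero_mem⟩), h3]
  have hsacard : (S.image β).card ≤ Nat.card K ^ k - 1 := by
    have h3 : (Finset.univ.filter fun u => u ∈ sa y u₀).card ≤ Nat.card K ^ k := by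
      have e1 : (Finset.univ.filter fun u => u ∈ sa y u₀).card = Nat.card K ^ finrank K (sa y u₀) := by
        rw [← Module.natCard_eq_pow_finrank (K := K), Nat.card_eq_fintype_card, Fintype.card_subtype]
      rw [e1]
      refine Nat.pow_le_pow_right Nat.card_pos ?_
      have := h.finrank_sa hσ (by omega) hu₀ h0
      omega
    have h4 : S.image β ⊆ (Finset.univ.filter fun u => u ∈ sa y u₀).erase 0 := by
      intro b hb
      obtain ⟨u, hu, rfl⟩ := Finset.mem_image.1 hb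
      exact Finset.mem_erase.2 ⟨hβ0 u hu, Finset.mem_filter.2 ⟨Finset.mem_univ _, hβsa u⟩⟩
    have h5 := Finset.card_le_card h4
    rw [Finset.card_erase_of_mem (Finset.mem_filter.2 ⟨Finset.mem_univ _, (sa y u₀).zero_mem⟩)] at h5
    exact h5.trans (Nat.sub_le_sub_right h3 1)
  have hq : 2 ≤ Nat.card K := Finite.one_lt_card
  have hqk : 2 ≤ Nat.card K ^ k := hq.trans (Nat.le_self_pow (by omega) _)
  have h7 : Nat.card K ^ (2 * k) - 1 = (Nat.card K ^ k + 1) * (Nat.card K ^ k - 1) := by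
    rw [mul_comm 2 k, pow_mul, ← Nat.sq_sub_sq, one_pow]
  rw [hScard, h7] at hcount
  have h8 : (Nat.card K ^ k + 1) * (Nat.card K ^ k - 1) ≤ Nat.card (torus F y) * (Nat.card K ^ k - 1) :=
    hcount.trans (Nat.mul_le_mul_left _ hsacard)
  exact Nat.le_of_mul_le_mul_right h8 (by omega)

end Cfsg.Agent.H477.OZ
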